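import Groth.Agent.Sga3.H805.SecExt
import Groth.Agent.Sga3B.DSPts
import Groth.Agent.Sga3B.Pts
import Mathlib.RingTheory.Localization.AtPrime.Basic
import Mathlib.RingTheory.LocalRing.ResidueField.Ideal

/-!
# Characters of the generic fibre of a flat group scheme over a normal base extend

`R` a noetherian integrally closed domain, `K = Frac R`, `G` a flat quasi-compact quasi-separated group scheme over
`Spec R` (no other hypothesis): every homomorphism `G_K ⟶ D_K(M)` extends uniquely to a homomorphism `G ⟶ D_R(M)`.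
-/

set_option autoImplicit false

universe u

open CategoryTheory MonoidalCategory CartesianMonoidalCategory MonObj GrpObj AlgebraicGeometry Limits Opposite
  TopologicalSpace
open scoped TensorProduct

namespace Groth.Agent.Sga3.H805.CharExt

open SecExt Groth.Agent.Sga3B.DSPts

/-- `R_p` a discrete valuation ring with uniformizer `π ∈ R`: if `b ⊗ b ∈ π (B ⊗ B)` then `t b ∈ π B` for some `t ∉ p`. -/
theorem exists_smul_of_tmul {R : Type u} [CommRing R] (p : Ideal R) [p.IsPrime] (π : R)
    (hmax : IsLocalRing.maximalIdeal (Localization.AtPrime p) = Ideal.span {algebraMap R _ π})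
    {B : Type u} [CommRing B] [Algebra R B] (b : B) (z : B ⊗[R] B) (h : b ⊗ₜ[R] b = π • z) :
    ∃ t : R, t ∉ p ∧ ∃ c : B, t • b = π • c := by
  let O := Localization.AtPrime p
  let M := LocalizedModule p.primeCompl B
  let l : B →ₗ[R] M := LocalizedModule.mkLinearMap p.primeCompl B
  let F : B ⊗[R] B →ₗ[R] M ⊗[O] M := TensorProduct.lift
    (LinearMap.mk₂ R (fun b c => (l b : M) ⊗ₜ[O] (l c : M))
      (fun a b c => by rw [map_add, TensorProduct.add_tmul])
      (fun r b c => by rw [map_smul]; rfl)
      (fun a b c => by rw [map_add, TensorProduct.tmul_add])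
      (fun r b c => by
        rw [map_smul, ← algebraMap_smul O r (l c), TensorProduct.tmul_smul, algebraMap_smul]))
  have hF : F (b ⊗ₜ[R] b) = (l b) ⊗ₜ[O] (l b) := by simp [F]
  have h1 : (l b) ⊗ₜ[O] (l b) = algebraMap R O π • F z := by
    rw [← hF, h, map_smul, algebraMap_smul]
  have hm : (Ideal.span ({algebraMap R O π} : Set O)).IsMaximal := by
    rw [← hmax]
    infer_instance
  obtain ⟨y, hy⟩ := FlatHartogs.exists_eq_smul_of_tmul (algebraMap R O π) hm (l b) (F z) h1
  obtain ⟨⟨c, s⟩, hc⟩ := IsLocalizedModule.surj p.primeCompl l y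
  have h2 : l ((s : R) • b) = l (π • c) := by
    have hc' : (s : R) • y = l c := hc
    rw [map_smul, map_smul, hy, ← hc', algebraMap_smul, smul_comm]
  obtain ⟨t, ht⟩ := (IsLocalizedModule.eq_iff_exists p.primeCompl l).mp h2
  refine ⟨t * s, fun hmem => ?_, t.1 • c, ?_⟩
  · exact (Ideal.IsPrime.mem_or_mem ‹p.IsPrime› hmem).elim t.2 s.2
  · have ht' : (t : R) • (s : R) • b = (t : R) • π • c := ht
    rw [mul_smul, ht', smul_comm]


section Square

variable {R : Type u} [CommRing R] (V : Over (Spec (CommRingCat.of R)))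

/-- the algebra of functions -/
@[reducible] noncomputable def fnAlg : Algebra R Γ(V.left, ⊤) := (str V.hom ⊤).toAlgebra

attribute [local instance] fnAlg

theorem exists_equiv [IsAffine V.left] :
    ∃ e : Γ(V.left, ⊤) ⊗[R] Γ(V.left, ⊤) ≃+* Γ((V ⊗ V).left, ⊤),
      ∀ b c, e (b ⊗ₜ c) = (fst V V).left.appTop b * (snd V V).left.appTop c := by
  have H : IsPullback (fst V V).left (snd V V).left V.hom V.hom := IsPullback.of_hasPullback V.hom V.hom
  have h1 := isIso_pushoutSection_of_isAffineOpen (US := ⊤) (UT := ⊤) (UX := ⊤)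
    (UY := ⊤) H (by simp) (by simp) (by simp) (isAffineOpen_top _) (isAffineOpen_top _) (isAffineOpen_top _)
  have h2 := (isIso_pushoutSection_iff ..).mp h1
  have e : ∀ {A B : Scheme.{u}} (f : A ⟶ B) (h : (⊤ : A.Opens) ≤ f ⁻¹ᵁ ⊤), f.appLE ⊤ ⊤ h = f.appTop :=
    fun f _ => Scheme.Hom.appLE_eq_app f
  rw [e, e, e] at h2
  have h3 : IsPushout (CommRingCat.ofHom (algebraMap R Γ(V.left, ⊤)))
      (CommRingCat.ofHom (algebraMap R Γ(V.left, ⊤))) (fst V V).left.appTop (snd V V).left.appTop := by
    have h4 : ∀ x, V.hom.appTop x = str V.hom ⊤ ((Scheme.ΓSpecIso (CommRingCat.of R)).hom x) := by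
      intro x
      rw [str_top]
      congr 1
      exact congr($((Scheme.ΓSpecIso (CommRingCat.of R)).hom_inv_id) x).symm
    refine h2.of_iso (Scheme.ΓSpecIso (CommRingCat.of R)) (Iso.refl _) (Iso.refl _) (Iso.refl _)
      ?_ ?_ ?_ ?_
    · ext x
      exact h4 x
    · ext x
      exact h4 x
    · rw [Iso.refl_hom, Iso.refl_hom, Category.comp_id, Category.id_comp]
    · rw [Iso.refl_hom, Iso.refl_hom, Category.comp_id, Category.id_comp]
  let E := ((CommRingCat.isPushout_tensorProduct R Γ(V.left, ⊤) Γ(V.left, ⊤)).isoIsPushout _ _ h3)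
  refine ⟨E.commRingCatIsoToRingEquiv, fun b c => ?_⟩
  have h5 : b ⊗ₜ[R] c = (b ⊗ₜ[R] 1) * (1 ⊗ₜ[R] c) := by simp
  rw [h5, map_mul]
  congr 1
  · exact congr($((CommRingCat.isPushout_tensorProduct R Γ(V.left, ⊤) Γ(V.left, ⊤)).inl_isoIsPushout_hom
      _ _ h3) b)
  · exact congr($((CommRingCat.isPushout_tensorProduct R Γ(V.left, ⊤) Γ(V.left, ⊤)).inr_isoIsPushout_hom
      _ _ h3) c)

end Square

/-- Divisibility by an element of the base on an open, from the functions of the open subscheme. -/
theorem exists_of_ι {R : Type u} [CommRing R] {X : Scheme.{u}} (f : X ⟶ Spec (CommRingCat.of R)) (V : X.Opens)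
    (t a : R) (x : Γ(X, ⊤)) (h : ∃ y : Γ(V.toScheme, ⊤), V.ι.appTop (str f ⊤ t * x) = str (V.ι ≫ f) ⊤ a * y) :
    ∃ y : Γ(X, V), X.presheaf.map (homOfLE le_top).op (str f ⊤ t * x) = str f V a * y := by
  obtain ⟨y, hy⟩ := h
  refine ⟨V.topIso.hom y, ?_⟩
  have h1 := congrArg V.topIso.hom hy
  rw [map_mul V.topIso.hom.hom] at h1
  have e : ∀ z : Γ(X, ⊤), V.topIso.hom (V.ι.appTop z) = X.presheaf.map (homOfLE (le_top : V ≤ ⊤)).op z := by
    intro z
    rw [Scheme.Opens.ι_appTop, Scheme.Opens.topIso_hom]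
    change (X.presheaf.map (homOfLE (le_top : V.ι ''ᵁ ⊤ ≤ ⊤)).op ≫ X.presheaf.map (eqToHom V.ι_image_top.symm).op) z
      = _
    rw [← Functor.map_comp]
    rfl
  have h2 : V.topIso.hom (str (V.ι ≫ f) ⊤ a) = str f V a := by
    have h3 : str (V.ι ≫ f) ⊤ a = V.ι.appTop (str f ⊤ a) := by
      rw [str_top, str_top, Scheme.Hom.comp_appTop]
      rfl
    rw [h3, e, map_str]
  rw [e, h2] at h1
  exact h1

section Main

variable {R : Type u} [CommRing R]

/-- Divisibility on `G` from divisibility of `x ⊠ x` on `G ⊗ G`. -/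
theorem exists_dvd [IsDomain R] (p : Ideal R) [p.IsPrime] (π : R) (hπ : π ≠ 0)
    (hmax : IsLocalRing.maximalIdeal (Localization.AtPrime p) = Ideal.span {algebraMap R _ π})
    (G : Over (Spec (CommRingCat.of R))) [Flat G.hom] [CompactSpace G.left]
    (x : Γ(G.left, ⊤)) (z : Γ((G ⊗ G).left, ⊤))
    (h : (fst G G).left.appTop x * (snd G G).left.appTop x = str (G ⊗ G).hom ⊤ π * z) :
    ∃ t : R, t ∉ p ∧ ∃ y : Γ(G.left, ⊤), str G.hom ⊤ t * x = str G.hom ⊤ π * y := by
  classical
  have key : ∀ V : G.left.affineOpens, ∃ t : R, t ∉ p ∧ ∃ y : Γ(V.1.toScheme, ⊤),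
      V.1.ι.appTop (str G.hom ⊤ t * x) = str (V.1.ι ≫ G.hom) ⊤ π * y := by
    intro V
    let V' : Over (Spec (CommRingCat.of R)) := Over.mk (V.1.ι ≫ G.hom)
    let i : V' ⟶ G := Over.homMk V.1.ι rfl
    have hV' : IsAffine V'.left := V.2
    let _ : Algebra R Γ(V'.left, ⊤) := fnAlg V'
    obtain ⟨e, he⟩ := exists_equiv V'
    have h1 : (fst V' V').left.appTop (i.left.appTop x) * (snd V' V').left.appTop (i.left.appTop x) =
        str (V' ⊗ V').hom ⊤ π * (i ⊗ₘ i).left.appTop z := by
      have h2 := congrArg (i ⊗ₘ i).left.appTop h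
      rw [map_mul, map_mul] at h2
      have e1 : (i ⊗ₘ i).left.appTop ((fst G G).left.appTop x) = (fst V' V').left.appTop (i.left.appTop x) := by
        have := congr(($(tensorHom_fst i i)).left.appTop x)
        rw [Over.comp_left, Over.comp_left, Scheme.Hom.comp_appTop, Scheme.Hom.comp_appTop] at this
        exact this
      have e2 : (i ⊗ₘ i).left.appTop ((snd G G).left.appTop x) = (snd V' V').left.appTop (i.left.appTop x) := by
        have := congr(($(tensorHom_snd i i)).left.appTop x)
        rw [Over.comp_left, Over.comp_left, Scheme.Hom.comp_appTop, Scheme.Hom.comp_appTop] at this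
        exact this
      have e3 : (i ⊗ₘ i).left.appTop (str (G ⊗ G).hom ⊤ π) = str (V' ⊗ V').hom ⊤ π := by
        have := appTop_str (f := (G ⊗ G).hom) (g := (i ⊗ₘ i).left) (iZ := (V' ⊗ V').hom) (φ := RingHom.id R)
          (by rw [Over.w]; simp) π
        exact this
      rw [e1, e2, e3] at h2
      exact h2
    have h3 : (i.left.appTop x) ⊗ₜ[R] (i.left.appTop x) = π • e.symm ((i ⊗ₘ i).left.appTop z) := by
      apply e.injective
      rw [he, h1]
      have h4 : ∀ w : Γ(V'.left, ⊤) ⊗[R] Γ(V'.left, ⊤), e (π • w) = str (V' ⊗ V').hom ⊤ π * e w := by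
        intro w
        have h5 : π • w = ((str V'.hom ⊤ π) ⊗ₜ[R] 1) * w := by
          rw [Algebra.smul_def]
          rfl
        rw [h5, map_mul, he, map_one, _root_.mul_one]
        congr 1
        have := appTop_str (f := V'.hom) (g := (fst V' V').left) (iZ := (V' ⊗ V').hom) (φ := RingHom.id R)
          (by rw [Over.w]; simp) π
        exact this
      rw [h4, RingEquiv.apply_symm_apply]
    obtain ⟨t, ht, c, hc⟩ := exists_smul_of_tmul p π hmax _ _ h3
    refine ⟨t, ht, c, ?_⟩
    have h6 : V.1.ι.appTop (str G.hom ⊤ t) = str (V.1.ι ≫ G.hom) ⊤ t := by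
      rw [str_top, str_top, Scheme.Hom.comp_appTop]
      rfl
    rw [map_mul, h6]
    exact hc
  choose t ht y hy using key
  obtain ⟨s, hs⟩ := isCompact_univ.elim_finite_subcover (fun V : G.left.affineOpens => (V.1 : Set G.left))
    (fun V => V.1.2) (fun x _ => by
      obtain ⟨_, ⟨W, hW, rfl⟩, hxW, -⟩ := G.left.isBasis_affineOpens.exists_subset_of_mem_open (Set.mem_univ x)
        isOpen_univ
      rw [Set.mem_iUnion]
      exact ⟨⟨W, hW⟩, hxW⟩)
  refine ⟨∏ V ∈ s, t V, ?_, ?_⟩
  · rw [Ideal.IsPrime.prod_mem_iff]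
    rintro ⟨V, -, hV⟩
    exact ht V hV
  · refine exists_of_cover G.hom hπ _ (fun V : s => V.1.1) (fun x _ => ?_) fun V => ?_
    · obtain ⟨V, hV⟩ := Set.mem_iUnion.mp (hs (Set.mem_univ x))
      obtain ⟨hV, hxV⟩ := Set.mem_iUnion.mp hV
      rw [Opens.mem_iSup]
      exact ⟨⟨V, hV⟩, hxV⟩
    · apply exists_of_ι
      refine ⟨str (V.1.1.ι ≫ G.hom) ⊤ (∏ W ∈ s.erase V.1, t W) * y V.1, ?_⟩
      have h7 : (∏ W ∈ s, t W) = (∏ W ∈ s.erase V.1, t W) * t V.1 := (Finset.prod_erase_mul s t V.2).symm
      have h6 : ∀ r : R, V.1.1.ι.appTop (str G.hom ⊤ r) = str (V.1.1.ι ≫ G.hom) ⊤ r := by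
        intro r
        rw [str_top, str_top, Scheme.Hom.comp_appTop]
        rfl
      have h8 := hy V.1
      rw [map_mul, h6] at h8
      rw [map_mul, h6, h7, map_mul, _root_.mul_assoc, h8]
      ring

/-- A uniformizer of a localization which is a discrete valuation ring can be taken in the ring. -/
theorem exists_uniformizer (p : Ideal R) [p.IsPrime] [IsDomain (Localization.AtPrime p)]
    [IsDiscreteValuationRing (Localization.AtPrime p)] :
    ∃ π : R, IsLocalRing.maximalIdeal (Localization.AtPrime p) = Ideal.span {algebraMap R _ π} := by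
  obtain ⟨ϖ, hϖ⟩ := IsDiscreteValuationRing.exists_irreducible (Localization.AtPrime p)
  obtain ⟨⟨π, s⟩, hπ⟩ := IsLocalization.surj p.primeCompl ϖ
  refine ⟨π, ?_⟩
  rw [hϖ.maximalIdeal_eq, ← hπ]
  exact (Ideal.span_singleton_mul_right_unit (IsLocalization.map_units _ s) ϖ).symm

variable [IsDomain R] {K : Type u} [Field K] [Algebra R K] [IsFractionRing R K]
  (G : Over (Spec (CommRingCat.of R))) [GrpObj G] [Flat G.hom] [QuasiCompact G.hom] [QuasiSeparated G.hom]
  {M : Type} [AddCommGroup M]

omit [IsDomain R] [IsFractionRing R K] [Flat G.hom] [QuasiCompact G.hom] [QuasiSeparated G.hom] in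
/-- Characters are multiplicative. -/
theorem map_mu (ψ : Red.bc (Spec.map (CommRingCat.ofHom (algebraMap R K))) G ⟶ Red.DS (Spec (CommRingCat.of K)) M)
    [IsMonHom ψ] (m : Multiplicative M) :
    ((Over.pullback (Spec.map (CommRingCat.ofHom (algebraMap R K)))).map μ[G]).left.appTop (dsChar ψ m) =
    ((Over.pullback (Spec.map (CommRingCat.ofHom (algebraMap R K)))).map (fst G G)).left.appTop (dsChar ψ m) *
    ((Over.pullback (Spec.map (CommRingCat.ofHom (algebraMap R K)))).map (snd G G)).left.appTop (dsChar ψ m) := by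
  have h1 : (Over.pullback (Spec.map (CommRingCat.ofHom (algebraMap R K)))).map μ[G] =
      (Over.pullback (Spec.map (CommRingCat.ofHom (algebraMap R K)))).map (fst G G) *
      (Over.pullback (Spec.map (CommRingCat.ofHom (algebraMap R K)))).map (snd G G) := by
    rw [mul_eq_mul]
    exact (Over.pullback (Spec.map (CommRingCat.ofHom (algebraMap R K)))).map_mul _ _
  have h2 := congrArg (fun t => t ≫ ψ) h1
  simp only [MonObj.mul_comp] at h2
  have h3 := congrArg dsChar h2
  rw [dsChar_mul, dsChar_comp, dsChar_comp, dsChar_comp] at h3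
  exact congr($h3 m)

variable (K) in
/-- the projection `X_K → X` -/
noncomputable abbrev gen (X : Over (Spec (CommRingCat.of R))) :
    (Red.bc (Spec.map (CommRingCat.ofHom (algebraMap R K))) X).left ⟶ X.left :=
  pullback.fst X.hom (Spec.map (CommRingCat.ofHom (algebraMap R K)))

variable (K) in
omit [IsDomain R] [IsFractionRing R K] in
theorem gen_app {X Y : Over (Spec (CommRingCat.of R))} (φ : X ⟶ Y) (x : Γ(Y.left, ⊤)) :
    (gen K X).appTop (φ.left.appTop x) =
      ((Over.pullback (Spec.map (CommRingCat.ofHom (algebraMap R K)))).map φ).left.appTop ((gen K Y).appTop x) := by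
  have h1 : ((Over.pullback (Spec.map (CommRingCat.ofHom (algebraMap R K)))).map φ).left ≫ gen K Y =
      gen K X ≫ φ.left := pullback.lift_fst _ _ _
  have h2 := congr(Scheme.Hom.appTop $h1)
  rw [Scheme.Hom.comp_appTop, Scheme.Hom.comp_appTop] at h2
  exact congr($h2 x).symm

/-- functions on `G`, `G ⊗ G` inject into functions on the generic fibre -/
theorem gen_injective (X : Over (Spec (CommRingCat.of R))) [Flat X.hom] [QuasiCompact X.hom]
    [QuasiSeparated X.hom] : Function.Injective (gen K X).appTop := by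
  have : CompactSpace X.left := (quasiCompact_iff_compactSpace (f := X.hom)).mp inferInstance
  have : QuasiSeparatedSpace X.left := (quasiSeparated_iff_quasiSeparatedSpace (f := X.hom)).mp inferInstance
  exact appTop_injective (f := X.hom) (nonZeroDivisors R) le_rfl
    (IsPullback.of_hasPullback X.hom (Spec.map (CommRingCat.ofHom (algebraMap R K))))

/-- **Characters are integral over discrete valuation rings.** -/
theorem exists_of_dvr (ψ : Red.bc (Spec.map (CommRingCat.ofHom (algebraMap R K))) G ⟶ Red.DS (Spec (CommRingCat.of K)) M)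
    [IsMonHom ψ] (m : Multiplicative M) (p : Ideal R) [p.IsPrime]
    [IsDiscreteValuationRing (Localization.AtPrime p)] :
    ∃ s : R, s ∉ p ∧ ∃ y : Γ(G.left, ⊤),
      (gen K G).appTop y = (gen K G).appTop (str G.hom ⊤ s) * dsChar ψ m := by
  classical
  have hcpt : CompactSpace G.left := (quasiCompact_iff_compactSpace (f := G.hom)).mp inferInstance
  have hqs : QuasiSeparatedSpace G.left := (quasiSeparated_iff_quasiSeparatedSpace (f := G.hom)).mp inferInstance
  let j := Spec.map (CommRingCat.ofHom (algebraMap R K))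
  let g := gen K G
  obtain ⟨π, hmax⟩ := exists_uniformizer p
  have hπ : π ≠ 0 := by
    rintro rfl
    rw [map_zero, Ideal.span_singleton_zero] at hmax
    exact IsDiscreteValuationRing.not_isField (Localization.AtPrime p)
      (IsLocalRing.isField_iff_maximalIdeal_eq.mpr hmax)
  have hH := IsPullback.of_hasPullback G.hom j
  -- some power of `π` works
  have hex : ∃ n : ℕ, ∃ s : R, s ∉ p ∧ ∃ y : Γ(G.left, ⊤),
      g.appTop y = g.appTop (str G.hom ⊤ (s * π ^ n)) * dsChar ψ m := by
    obtain ⟨x, a, ha, hx⟩ := (exists_fraction (nonZeroDivisors R) hH).1 (dsChar ψ m)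
    have ha0 : algebraMap R (Localization.AtPrime p) a ≠ 0 := fun h0 =>
      nonZeroDivisors.ne_zero ha ((IsLocalization.injective (Localization.AtPrime p)
        p.primeCompl_le_nonZeroDivisors) (h0.trans (map_zero _).symm))
    have hirr : Irreducible (algebraMap R (Localization.AtPrime p) π) :=
      (IsDiscreteValuationRing.irreducible_iff_uniformizer _).mpr hmax
    obtain ⟨n, w, hw⟩ := IsDiscreteValuationRing.eq_unit_mul_pow_irreducible ha0 hirr
    obtain ⟨⟨b, s⟩, hb⟩ := IsLocalization.surj p.primeCompl (w : Localization.AtPrime p)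
    have hbp : b ∉ p := by
      intro hbp
      have h1 : IsUnit (algebraMap R (Localization.AtPrime p) b) := by
        rw [← hb]
        exact w.isUnit.mul (IsLocalization.map_units _ s)
      exact (IsLocalization.AtPrime.isUnit_to_map_iff (Localization.AtPrime p) p b).mp h1 hbp
    have h2 : s.1 * a = b * π ^ n := by
      apply IsLocalization.injective (Localization.AtPrime p) p.primeCompl_le_nonZeroDivisors
      rw [map_mul, map_mul, map_pow, hw, ← hb]
      ring
    refine ⟨n, b, hbp, str G.hom ⊤ s.1 * x, ?_⟩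
    rw [map_mul, hx, ← h2, map_mul, map_mul]
    ring
  -- the minimal one
  obtain ⟨s, hs, y, hy⟩ := Nat.find_spec hex
  have hmin := fun n hn => Nat.find_min hex (m := n) hn
  rcases hn : Nat.find hex with _ | n
  · rw [hn] at hy
    refine ⟨s, hs, y, ?_⟩
    rw [hy, pow_zero, _root_.mul_one]
  exfalso
  rw [hn] at hy
  refine hmin n (by omega) ?_
  -- the relation on `G ⊗ G`
  have hGG : Flat (G ⊗ G).hom := by
    change Flat (pullback.fst G.hom G.hom ≫ G.hom)
    infer_instance
  have hGG2 : QuasiCompact (G ⊗ G).hom := by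
    change QuasiCompact (pullback.fst G.hom G.hom ≫ G.hom)
    infer_instance
  have hGG3 : QuasiSeparated (G ⊗ G).hom := by
    change QuasiSeparated (pullback.fst G.hom G.hom ≫ G.hom)
    infer_instance
  let g2 := gen K (G ⊗ G)
  have hg2 : Function.Injective g2.appTop := gen_injective (G ⊗ G)
  have hnat : ∀ (φ : G ⊗ G ⟶ G) (x : Γ(G.left, ⊤)),
      g2.appTop (φ.left.appTop x) = ((Over.pullback j).map φ).left.appTop (g.appTop x) :=
    fun φ x => gen_app K φ x
  have hstr : ∀ (φ : G ⊗ G ⟶ G) (r : R), φ.left.appTop (str G.hom ⊤ r) = str (G ⊗ G).hom ⊤ r := fun φ r =>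
    appTop_str (f := G.hom) (g := φ.left) (iZ := (G ⊗ G).hom) (φ := RingHom.id R) (by rw [Over.w]; simp) r
  have hrel : (fst G G).left.appTop y * (snd G G).left.appTop y =
      str (G ⊗ G).hom ⊤ π * (str (G ⊗ G).hom ⊤ (s * π ^ n) * μ[G].left.appTop y) := by
    apply hg2
    have e1 : g2.appTop ((fst G G).left.appTop y) = g2.appTop (str (G ⊗ G).hom ⊤ (s * π ^ (n + 1))) *
        ((Over.pullback j).map (fst G G)).left.appTop (dsChar ψ m) := by
      rw [hnat, hy, map_mul, ← hnat, hstr]
    have e2 : g2.appTop ((snd G G).left.appTop y) = g2.appTop (str (G ⊗ G).hom ⊤ (s * π ^ (n + 1))) *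
        ((Over.pullback j).map (snd G G)).left.appTop (dsChar ψ m) := by
      rw [hnat, hy, map_mul, ← hnat, hstr]
    have e3 : g2.appTop (μ[G].left.appTop y) = g2.appTop (str (G ⊗ G).hom ⊤ (s * π ^ (n + 1))) *
        (((Over.pullback j).map (fst G G)).left.appTop (dsChar ψ m) *
        ((Over.pullback j).map (snd G G)).left.appTop (dsChar ψ m)) := by
      rw [hnat, hy, map_mul, ← hnat, hstr, map_mu G ψ m]
    rw [map_mul, map_mul, map_mul, e1, e2, e3]
    simp only [map_mul, map_pow, pow_succ]
    ring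
  obtain ⟨t, ht, y', hy'⟩ := exists_dvd p π hπ hmax G y _ hrel
  refine ⟨t * s, ?_, y', ?_⟩
  · exact fun h => (Ideal.IsPrime.mem_or_mem ‹p.IsPrime› h).elim ht hs
  · have h1 : IsUnit (g.appTop (str G.hom ⊤ π)) := by
      rw [appTop_str hH.w]
      refine IsUnit.map (str (pullback.snd G.hom j) ⊤) ?_
      rw [isUnit_iff_ne_zero]
      exact fun h0 => hπ (IsFractionRing.injective R K (h0.trans (map_zero _).symm))
    apply h1.mul_left_cancel
    rw [← map_mul, ← hy', map_mul, hy]
    simp only [map_mul, map_pow, pow_succ]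
    ring

theorem exists_function [IsNoetherianRing R] [IsIntegrallyClosed R]
    (ψ : Red.bc (Spec.map (CommRingCat.ofHom (algebraMap R K))) G ⟶ Red.DS (Spec (CommRingCat.of K)) M)
    [IsMonHom ψ] (m : Multiplicative M) : ∃ v : Γ(G.left, ⊤),
      (gen K G).appTop v = dsChar ψ m := by
  have hcpt : CompactSpace G.left := (quasiCompact_iff_compactSpace (f := G.hom)).mp inferInstance
  have hqs : QuasiSeparatedSpace G.left := (quasiSeparated_iff_quasiSeparatedSpace (f := G.hom)).mp inferInstance
  refine exists_ext (f := G.hom)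
    (IsPullback.of_hasPullback G.hom (Spec.map (CommRingCat.ofHom (algebraMap R K)))) _ fun p _ hp => ?_
  exact exists_of_dvr G ψ m p

/-- **Characters of the generic fibre extend**: `R` a noetherian integrally closed domain with fraction field `K`,
`G` a flat quasi-compact quasi-separated group scheme over `Spec R`. -/
theorem exists_extend [IsNoetherianRing R] [IsIntegrallyClosed R]
    (ψ : Red.bc (Spec.map (CommRingCat.ofHom (algebraMap R K))) G ⟶ Red.DS (Spec (CommRingCat.of K)) M)
    [IsMonHom ψ] : ∃ φ : G ⟶ Red.DS (Spec (CommRingCat.of R)) M, IsMonHom φ ∧ ∀ m,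
      (gen K G).appTop (dsChar φ m) = dsChar ψ m := by
  choose v hv using fun m => exists_function G ψ m
  have hinj := gen_injective (K := K) G
  let w : Multiplicative M →* Γ(G.left, ⊤) :=
    { toFun := v
      map_one' := by
        apply hinj
        rw [hv, map_one, map_one]
      map_mul' := fun a b => by
        apply hinj
        rw [map_mul, hv, hv, hv, map_mul] }
  refine ⟨dsEquiv G M w, ?_, fun m => ?_⟩
  · apply Sga3B.Pts.isMonHom_of_universal
    apply (dsEquiv (G ⊗ G) M).symm.injective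
    change dsChar _ = dsChar _
    have hGG : Flat (G ⊗ G).hom := by
      change Flat (pullback.fst G.hom G.hom ≫ G.hom)
      infer_instance
    have hGG2 : QuasiCompact (G ⊗ G).hom := by
      change QuasiCompact (pullback.fst G.hom G.hom ≫ G.hom)
      infer_instance
    have hGG3 : QuasiSeparated (G ⊗ G).hom := by
      change QuasiSeparated (pullback.fst G.hom G.hom ≫ G.hom)
      infer_instance
    let j := Spec.map (CommRingCat.ofHom (algebraMap R K))
    let g := gen K G
    let g2 := gen K (G ⊗ G)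
    have hg2 : Function.Injective g2.appTop := gen_injective (G ⊗ G)
    have hnat : ∀ (φ : G ⊗ G ⟶ G) (x : Γ(G.left, ⊤)),
        g2.appTop (φ.left.appTop x) = ((Over.pullback j).map φ).left.appTop (g.appTop x) :=
      fun φ x => gen_app K φ x
    rw [← mul_eq_mul, dsChar_comp, dsChar_mul, dsChar_comp, dsChar_comp, dsChar_dsEquiv]
    ext m
    apply hg2
    change g2.appTop (μ[G].left.appTop (v m)) =
      g2.appTop ((fst G G).left.appTop (v m) * (snd G G).left.appTop (v m))
    rw [map_mul, hnat, hnat, hnat, hv, map_mu G ψ m]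
  · rw [dsChar_dsEquiv]
    exact hv m

end Main

end Groth.Agent.Sga3.H805.CharExt
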