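import Groth.Agent.S0021
import Groth.Prelude.Def_Found
import Mathlib.AlgebraicGeometry.Morphisms.Finite
import Mathlib.AlgebraicGeometry.Morphisms.Affine
import Mathlib.AlgebraicGeometry.Limits
import Mathlib.AlgebraicGeometry.Noetherian
import Mathlib.RingTheory.Ideal.MinimalPrime.Noetherian
import Mathlib.RingTheory.DedekindDomain.IntegralClosure

/-!
# Reduction of affineness questions to normal domains

`isAffine_of_minimalPrimes`: a scheme of finite type over a noetherian ring `R` is affine as soon as for every minimal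
prime `p` its base change along some finite ring map `R → R''` with kernel contained in `p` is affine (Chevalley).

`isAffine_of_normal`: for a Nagata ring it is enough to test, for every minimal prime `p`, the normalization of
`R ⧸ p` in one (freely chosen) finite extension of its fraction field.
-/

set_option autoImplicit false

universe u

open CategoryTheory CategoryTheory.Limits AlgebraicGeometry

namespace Groth.Agent.Sga3.H805.NormRed

lemma isZariskiLocalAtTarget_isAffineHom : IsZariskiLocalAtTarget (@IsAffineHom.{u}) := inferInstance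

/-- Affineness over a finite product of rings. -/
theorem isAffineHom_pi {ι : Type u} [Finite ι] (A : ι → CommRingCat.{u}) {X : Scheme.{u}}
    (f : X ⟶ Spec (.of (Π i, A i)))
    (h : ∀ i, IsAffine (pullback f (Spec.map (CommRingCat.ofHom (Pi.evalRingHom (fun i => A i) i))))) :
    IsAffineHom f := by
  have hloc := isZariskiLocalAtTarget_isAffineHom.{u}
  have hopen : ∀ i, IsOpenImmersion (Spec.map (CommRingCat.ofHom (Pi.evalRingHom (fun i => A i) i))) := by
    intro i
    rw [← ι_sigmaSpec]
    infer_instance
  have hcov : ∀ x : Spec (.of (Π i, A i)),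
      ∃ i, x ∈ Set.range (Spec.map (CommRingCat.ofHom (Pi.evalRingHom (fun i => A i) i))) := by
    intro x
    obtain ⟨y, rfl⟩ := (inferInstance : Surjective (sigmaSpec A)).surj x
    obtain ⟨i, z, rfl⟩ := (sigmaOpenCover (fun i => Spec (A i))).exists_eq y
    refine ⟨i, z, ?_⟩
    rw [← ι_sigmaSpec]
    rfl
  refine IsZariskiLocalAtTarget.of_openCover (P := @IsAffineHom)
    (Scheme.Cover.mkOfCovers (P := @IsOpenImmersion) ι (fun i => Spec (A i)) _ hcov hopen) fun i => ?_
  have := h i
  exact (inferInstance : IsAffineHom (pullback.snd f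
    (Spec.map (CommRingCat.ofHom (Pi.evalRingHom (fun i => A i) i)))))

/-- Affineness can be tested over finite extensions of the quotients by the minimal primes. -/
theorem isAffine_of_minimalPrimes {R : Type u} [CommRing R] [IsNoetherianRing R] {X : Scheme.{u}}
    (f : X ⟶ Spec (CommRingCat.of R)) [LocallyOfFiniteType f] [QuasiCompact f]
    (h : ∀ p ∈ minimalPrimes R, ∃ (R' : Type u) (_ : CommRing R') (φ : R →+* R'), φ.Finite ∧
      RingHom.ker φ ≤ p ∧ IsAffine (pullback f (Spec.map (CommRingCat.ofHom φ)))) : IsAffine X := by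
  let ι : Type u := minimalPrimes R
  have hι : Finite ι := minimalPrimes.finite_of_isNoetherianRing R
  choose A iA φ hfin hker haff using fun p : ι => h p.1 p.2
  let ψ : R →+* (Π p, A p) := RingHom.pi φ
  have hψ : ψ.Finite := by
    algebraize [ψ]
    let _ : ∀ p, Algebra R (A p) := fun p => (φ p).toAlgebra
    have h1 : ∀ p, Module.Finite R (A p) := fun p => hfin p
    exact (inferInstance : Module.Finite R (Π p, A p))
  let g : Spec (.of (Π p, A p)) ⟶ Spec (.of R) := Spec.map (CommRingCat.ofHom ψ)
  have hg : IsFinite g := by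
    rw [IsFinite.SpecMap_iff]
    exact hψ
  have hgs : Surjective g := by
    refine ⟨fun x => ?_⟩
    obtain ⟨p, hp, hpx⟩ := Ideal.exists_minimalPrimes_le (J := x.asIdeal) (I := ⊥) bot_le
    have hrange : Set.range (PrimeSpectrum.comap (φ ⟨p, hp⟩)) =
        PrimeSpectrum.zeroLocus (RingHom.ker (φ ⟨p, hp⟩)) := by
      rw [← PrimeSpectrum.closure_range_comap]
      exact (PrimeSpectrum.isClosedMap_comap_of_isIntegral _
        (hfin ⟨p, hp⟩).to_isIntegral).isClosed_range.closure_eq.symm
    have hx : (x : PrimeSpectrum R) ∈ Set.range (PrimeSpectrum.comap (φ ⟨p, hp⟩)) := by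
      rw [hrange]
      exact (hker ⟨p, hp⟩).trans hpx
    obtain ⟨y, hy⟩ := hx
    refine ⟨PrimeSpectrum.comap (Pi.evalRingHom (fun i => A i) ⟨p, hp⟩) y, ?_⟩
    rw [← hy]
    rfl
  have hX : IsNoetherian X := by
    have h1 : IsLocallyNoetherian X := LocallyOfFiniteType.isLocallyNoetherian f
    have h2 : CompactSpace X := QuasiCompact.compactSpace_of_compactSpace f
    exact { }
  have hsnd : IsAffineHom (pullback.snd f g) := by
    refine isAffineHom_pi (fun p => CommRingCat.of (A p)) _ fun p => ?_
    have hcomp : Spec.map (CommRingCat.ofHom (Pi.evalRingHom (fun i => A i) p)) ≫ g =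
        Spec.map (CommRingCat.ofHom (φ p)) := by
      rw [← Spec.map_comp, ← CommRingCat.ofHom_comp]
      rfl
    have h2 : IsAffine (pullback f (Spec.map (CommRingCat.ofHom (Pi.evalRingHom (fun i => A i) p)) ≫ g)) := by
      rw [hcomp]
      exact haff p
    exact .of_isIso (pullbackLeftPullbackSndIso f g
      (Spec.map (CommRingCat.ofHom (Pi.evalRingHom (fun i => A i) p)))).hom
  have h3 : IsAffine (pullback f g) := isAffine_of_isAffineHom (pullback.snd f g)
  exact Groth.Agent.S0021.result (pullback.fst f g)

/-- The normalization of a quotient of a Nagata ring by a prime in a finite extension of the fraction field. -/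
theorem exists_normal {R : Type u} [CommRing R] (hR : CAlg.IsNagata R) (p : Ideal R) [p.IsPrime]
    (L : Type u) [Field L] [Algebra (FractionRing (R ⧸ p)) L] [FiniteDimensional (FractionRing (R ⧸ p)) L] :
    ∃ (R' : Type u) (_ : CommRing R') (_ : IsDomain R') (_ : IsNoetherianRing R') (_ : IsIntegrallyClosed R')
      (_ : Algebra R' L) (_ : IsFractionRing R' L) (φ : R →+* R'), φ.Finite ∧ RingHom.ker φ = p ∧
        ∀ r, algebraMap R' L (φ r) =
          algebraMap (FractionRing (R ⧸ p)) L (algebraMap (R ⧸ p) _ (Ideal.Quotient.mk p r)) := by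
  have hN := hR.1
  let K := FractionRing (R ⧸ p)
  let _ : Algebra (R ⧸ p) L := ((algebraMap K L).comp (algebraMap (R ⧸ p) K)).toAlgebra
  have hst : IsScalarTower (R ⧸ p) K L := IsScalarTower.of_algebraMap_eq' rfl
  have hfin : Module.Finite (R ⧸ p) (integralClosure (R ⧸ p) L) := hR.2 p L inferInstance
  let R' := integralClosure (R ⧸ p) L
  have h1 : IsNoetherianRing R' := IsNoetherianRing.of_finite (R ⧸ p) R'
  have h2 : IsFractionRing R' L := integralClosure.isFractionRing_of_finite_extension K L
  have h3 : IsIntegrallyClosed R' := integralClosure.isIntegrallyClosedOfFiniteExtension K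
  have hinj : Function.Injective (algebraMap (R ⧸ p) R') := by
    intro x y hxy
    have : algebraMap (R ⧸ p) L x = algebraMap (R ⧸ p) L y := congrArg (algebraMap R' L) hxy
    exact IsFractionRing.injective (R ⧸ p) K ((algebraMap K L).injective this)
  refine ⟨R', inferInstance, inferInstance, h1, h3, inferInstance, h2,
    (algebraMap (R ⧸ p) R').comp (Ideal.Quotient.mk p), ?_, ?_, ?_⟩
  · refine RingHom.Finite.comp ?_ ?_
    · rw [RingHom.finite_algebraMap]
      exact hfin
    · exact RingHom.Finite.of_surjective _ Ideal.Quotient.mk_surjective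
  · rw [← RingHom.comap_ker, (RingHom.injective_iff_ker_eq_bot _).1 hinj, ← RingHom.ker_eq_comap_bot,
      Ideal.mk_ker]
  · intro r
    rfl

/-- Affineness over a Nagata ring can be tested over normalizations of the quotients by the minimal primes in
arbitrary finite extensions of their fraction fields. -/
theorem isAffine_of_normal {R : Type u} [CommRing R] (hR : CAlg.IsNagata R) {X : Scheme.{u}}
    (f : X ⟶ Spec (CommRingCat.of R)) [LocallyOfFiniteType f] [QuasiCompact f]
    (h : ∀ (p : Ideal R) [p.IsPrime], ∃ (L : Type u) (_ : Field L) (_ : Algebra (FractionRing (R ⧸ p)) L)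
      (_ : FiniteDimensional (FractionRing (R ⧸ p)) L),
      ∀ (R' : Type u) [CommRing R'] [IsDomain R'] [IsNoetherianRing R'] [IsIntegrallyClosed R'] [Algebra R' L]
        [IsFractionRing R' L] (φ : R →+* R'),
        (∀ r, algebraMap R' L (φ r) =
          algebraMap (FractionRing (R ⧸ p)) L (algebraMap (R ⧸ p) _ (Ideal.Quotient.mk p r))) →
        IsAffine (pullback f (Spec.map (CommRingCat.ofHom φ)))) : IsAffine X := by
  have hN := hR.1
  refine isAffine_of_minimalPrimes f fun p hp => ?_
  have hp' : p.IsPrime := hp.1.1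
  obtain ⟨L, _, _, _, hL⟩ := h p
  obtain ⟨R', i1, i2, i3, i4, i5, i6, φ, hφ, hker, hφL⟩ := exists_normal hR p L
  exact ⟨R', i1, φ, hφ, hker.le, hL R' φ hφL⟩

end Groth.Agent.Sga3.H805.NormRed
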