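import Groth.Agent.Sga3B.SsKer

/-!
# Tori in the kernel of a homomorphism

* `eq_of_discrete`: a morphism from a reduced connected scheme with a rational point to a discrete scheme over a field
  is constant.
* `discrete_or_exists`: a closed normal subgroup of a reductive group which centralizes the first infinitesimal
  neighbourhood of the unit is discrete or contains a non-trivial central split torus.
-/

set_option autoImplicit false

universe u

open CategoryTheory MonoidalCategory CartesianMonoidalCategory MonObj GrpObj AlgebraicGeometry Limits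

namespace Groth.Agent.Sga3.H805.TorKer

open Groth.Agent.Sga3B Books.AlgPts Books.AlgPtsGrp Books.AlgPtsSmooth Books.AlgPtsGen FreeBC DSAffPts AdRep
  RedIdComp

/-- A morphism from a reduced scheme with a rational point over a field which is constant on points is constant. -/
theorem eq_of_constant {k : Type u} [Field k] {X Y : Over (Spec (CommRingCat.of k))} [IsReduced X.left]
    (f : X ⟶ Y) (e : 𝟙_ (Over (Spec (CommRingCat.of k))) ⟶ X)
    (h1 : ∀ x : X.left, f.left x = f.left (e.left (IsLocalRing.closedPoint k))) : f = toUnit X ≫ e ≫ f := by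
  let pt : (𝟙_ (Over (Spec (CommRingCat.of k)))).left := IsLocalRing.closedPoint k
  have hpt : ∀ z : (𝟙_ (Over (Spec (CommRingCat.of k)))).left, z = pt := fun z =>
    @Subsingleton.elim (PrimeSpectrum k) _ z pt
  let y : Y.left := f.left (e.left pt)
  have h2 : ∀ x : X.left, (toUnit X ≫ e ≫ f).left x = y := by
    intro x
    rw [Over.comp_left, Over.comp_left]
    change f.left (e.left ((toUnit X).left x)) = y
    rw [hpt ((toUnit X).left x)]
  obtain ⟨V, hVaff, hyV⟩ : ∃ V : Y.left.Opens, IsAffine V ∧ y ∈ V := by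
    obtain ⟨_, ⟨V, hV, rfl⟩, hyV, -⟩ := Y.left.isBasis_affineOpens.exists_subset_of_mem_open (Set.mem_univ y)
      isOpen_univ
    exact ⟨V, hV, hyV⟩
  have r1 : Set.range f.left ⊆ Set.range V.ι := by
    rintro _ ⟨x, rfl⟩
    rw [Scheme.Opens.range_ι, h1]
    exact hyV
  have r2 : Set.range (toUnit X ≫ e ≫ f).left ⊆ Set.range V.ι := by
    rintro _ ⟨x, rfl⟩
    rw [Scheme.Opens.range_ι, h2]
    exact hyV
  let g := IsOpenImmersion.lift V.ι f.left r1
  let g' := IsOpenImmersion.lift V.ι (toUnit X ≫ e ≫ f).left r2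
  have hg : g ≫ V.ι = f.left := IsOpenImmersion.lift_fac _ _ _
  have hg' : g' ≫ V.ι = (toUnit X ≫ e ≫ f).left := IsOpenImmersion.lift_fac _ _ _
  have heg : g' = (toUnit X).left ≫ e.left ≫ g := by
    rw [← cancel_mono V.ι, hg', Category.assoc, Category.assoc, hg]
    rfl
  ext1
  rw [← hg, ← hg']
  congr 1
  apply ext_of_isAffine
  ext b
  rw [← sub_eq_zero, ← basicOpen_eq_bot_iff]
  -- the constant
  let c : Γ((𝟙_ (Over (Spec (CommRingCat.of k)))).left, ⊤) := e.left.appTop (g.appTop b)
  let b' : Γ(V.toScheme, ⊤) := b - (V.ι ≫ Y.hom).appTop c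
  have h3 : g.appTop ((V.ι ≫ Y.hom).appTop c) = g'.appTop b := by
    have e1 : g ≫ V.ι ≫ Y.hom = (toUnit X).left := by
      rw [← Category.assoc, hg, Over.w]
      exact (Over.w (toUnit X)).symm.trans (Category.comp_id _)
    have e2 : g.appTop ((V.ι ≫ Y.hom).appTop c) = (toUnit X).left.appTop c := by
      rw [← e1]
      rw [Scheme.Hom.comp_appTop]
      rfl
    rw [e2, heg, Scheme.Hom.comp_appTop, Scheme.Hom.comp_appTop]
    rfl
  have h4 : g.appTop b - g'.appTop b = g.appTop b' := by
    rw [map_sub, h3]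
  have h5 : (e.left ≫ g).appTop b' = 0 := by
    rw [map_sub, sub_eq_zero]
    have e1 : (e.left ≫ g) ≫ V.ι ≫ Y.hom = 𝟙 _ := by
      rw [← Category.assoc, Category.assoc e.left, hg, Category.assoc, Over.w]
      exact Over.w e
    have e2 : (e.left ≫ g).appTop ((V.ι ≫ Y.hom).appTop c) = c := by
      have := congr(Scheme.Hom.appTop $e1 c)
      rw [Scheme.Hom.comp_appTop] at this
      simpa using this
    rw [e2, Scheme.Hom.comp_appTop]
    rfl
  change X.left.basicOpen (g.appTop b - g'.appTop b) = ⊥
  rw [h4, ← Scheme.preimage_basicOpen_top, eq_bot_iff]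
  intro x hx
  have h6 : g x = (e.left ≫ g) pt := by
    apply V.ι.isOpenEmbedding.injective
    have e1 : V.ι (g x) = f.left x := by rw [← hg]; rfl
    have e2 : V.ι ((e.left ≫ g) pt) = y := by
      change V.ι (g (e.left pt)) = f.left (e.left pt)
      rw [← hg]
      rfl
    rw [e1, e2, h1]
  have h7 : pt ∈ (e.left ≫ g) ⁻¹ᵁ (V.toScheme.basicOpen b') := by
    change (e.left ≫ g) pt ∈ V.toScheme.basicOpen b'
    rw [← h6]
    exact hx
  rw [Scheme.preimage_basicOpen_top, h5, Scheme.basicOpen_zero] at h7
  exact h7.elim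

/-- A morphism from a reduced connected scheme with a rational point to a discrete scheme over a field is constant. -/
theorem eq_of_discrete {k : Type u} [Field k] {X Y : Over (Spec (CommRingCat.of k))} [IsReduced X.left]
    [PreconnectedSpace X.left] [DiscreteTopology Y.left] (f : X ⟶ Y)
    (e : 𝟙_ (Over (Spec (CommRingCat.of k))) ⟶ X) : f = toUnit X ≫ e ≫ f :=
  eq_of_constant f e fun _ => PreconnectedSpace.constant ‹_› f.left.continuous

variable {K : Type u} [Field K] [IsAlgClosed K]

/-- A closed normal subgroup of a reductive group which centralizes the first infinitesimal neighbourhood of the unit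
is discrete or contains a non-trivial central split torus. -/
theorem discrete_or_exists {A : Type u} [CommRing A] [Algebra K A]
    {G N : Over (Spec (CommRingCat.of K))} [GrpObj G] [GrpObj N] (hG : Red.IsReductiveOver K G)
    (w : DE K A ⟶ G) [IsIso w] (eW : 𝟙_ (Over (Spec (CommRingCat.of K))) ⟶ DE K A) (heW : eW ≫ w = η)
    (n : N ⟶ G) [IsMonHom n] [IsClosedImmersion n.left] (hn : AlgGrp.IsNormalHom n)
    (h : ∀ (X : Over (Spec (CommRingCat.of K))) (t : X ⟶ N) (d : X ⟶ DE K (A ⧸ augIdeal eW ^ 2)),
      (t ≫ n) * (d ≫ quotMap _ ≫ w) * (t ≫ n)⁻¹ = d ≫ quotMap _ ≫ w) :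
    DiscreteTopology N.left ∨ ∃ (r : ℕ) (i : Red.DS (Spec (CommRingCat.of K)) (Fin r → ℤ) ⟶ N),
      IsMonHom i ∧ i ≠ 1 ∧ ∀ (X : Over (Spec (CommRingCat.of K)))
        (t : X ⟶ Red.DS (Spec (CommRingCat.of K)) (Fin r → ℤ)) (g : X ⟶ G),
        (t ≫ i ≫ n) * g = g * (t ≫ i ≫ n) := by
  rw [or_iff_not_imp_right]
  intro hcon
  obtain ⟨hGaff, hGsm, hGc, hred⟩ := hG
  have hNlft : LocallyOfFiniteType N.hom := by
    rw [← Over.w n]; infer_instance
  obtain ⟨U, _, v, hv, hvcl, hUsm, hUc, hvr⟩ := exists_redIdComp N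
  have hnorm := isNormalHom_of_redIdComp n hn v hvr
  have hcl : IsClosedImmersion (v ≫ n).left := by
    rw [Over.comp_left]; infer_instance
  -- A is a noetherian domain
  have hwl : IsIso w.left := inferInstanceAs (IsIso ((Over.forget _).map w))
  have hvar : IsVar G := isVar_of_smooth G
  have hGint := hvar.isIntegral
  have hGne : Nonempty G.left := inferInstance
  have hint : IsIntegral (Spec (CommRingCat.of A)) := by
    have hne : Nonempty ↥(Spec (CommRingCat.of A)) := ⟨(inv w.left) hGne.some⟩
    exact isIntegral_of_isOpenImmersion w.left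
  have hdom : IsDomain A := (affine_isIntegral_iff (CommRingCat.of A)).mp hint
  have hft : Algebra.FiniteType K A := by
    have h1 : LocallyOfFiniteType (w.left ≫ G.hom) := inferInstance
    rw [Over.w w] at h1
    change LocallyOfFiniteType (Spec.map (CommRingCat.ofHom (algebraMap K A))) at h1
    rwa [HasRingHomProperty.Spec_iff (P := @LocallyOfFiniteType), CommRingCat.hom_ofHom,
      RingHom.finiteType_algebraMap] at h1
  have hnoeth : IsNoetherianRing A := Algebra.FiniteType.isNoetherianRing K A
  -- U contains no torus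
  have hsub : Red.HasNoSubtorus K U := by
    intro T _ j _ _ hT
    by_contra hne
    apply hcon
    have hmono1 : Mono v := mono_of_isClosedImmersion v
    obtain ⟨r, ⟨e⟩⟩ := TorusAlgClosed.exists_isSplitTorusWith hT
    let e' : T ≅ Red.DS (Spec (CommRingCat.of K)) (Fin r → ℤ) := (Grp.forget _).mapIso e
    have he' : IsMonHom e'.inv := inferInstanceAs (IsMonHom e.inv.hom.hom)
    refine ⟨r, e'.inv ≫ j ≫ v, inferInstance, ?_, ?_⟩
    · intro h1
      apply hne
      -- all points of `T` are trivial
      have h2 : ∀ (X : Over (Spec (CommRingCat.of K))) (t : X ⟶ T), t = 1 := by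
        intro X t
        have h3 : t ≫ j ≫ v = 1 := by
          have h4 : (t ≫ e'.hom) ≫ e'.inv ≫ j ≫ v = 1 := by rw [h1, MonObj.comp_one]
          rwa [Category.assoc, Iso.hom_inv_id_assoc] at h4
        rw [← cancel_mono (j ≫ v), h3]
        exact (MonObj.one_comp (j ≫ v)).symm
      have h5 : toUnit T ≫ η[T] = 𝟙 T := (h2 T (toUnit T ≫ η[T])).trans (h2 T (𝟙 T)).symm
      have h6 : IsIso (toUnit T) := ⟨η[T], h5, toUnit_unique _ _⟩
      have h7 : IsIso (toUnit T).left := inferInstanceAs (IsIso ((Over.forget _).map (toUnit T)))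
      have h8 : (toUnit T).left = T.hom := (Category.comp_id _).symm.trans (Over.w (toUnit T))
      rw [h8] at h7
      exact h7
    · intro X t g
      have := CentralTorus.central_DS w eW heW (M := Fin r → ℤ) (e'.inv ≫ j ≫ v ≫ n) (by
        intro X t d
        have := h X (t ≫ e'.inv ≫ j ≫ v) d
        simpa using this) t g
      simpa using this
  have htriv := hred U (v ≫ n) hcl hUsm hUc hnorm hsub
  exact SsKer.discreteTopology_of_redIdComp v hvr htriv

end Groth.Agent.Sga3.H805.TorKer
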