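import Groth.Agent.Sga3.H805.DetChar
import Groth.Agent.Sga3.H805.TorKer
import Groth.Agent.Sga3B.RG.BrDiag
import Mathlib.RingTheory.HopfAlgebra.GroupLike

/-!
# Characters detecting central tori over a field
-/

set_option autoImplicit false

universe u

open CategoryTheory MonoidalCategory CartesianMonoidalCategory MonObj GrpObj AlgebraicGeometry Limits
open scoped TensorProduct

namespace Groth.Agent.Sga3.H805.CharK

open Groth.Agent.Books.AffBridge Groth.Agent.Books.AffBridge2 Groth.Agent.Sga3B Groth.Agent.Sga3B.RG.BrDiag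

/-- central homomorphisms -/
def IsCen {S : Scheme.{u}} {T G : Over S} [GrpObj G] (i : T ⟶ G) : Prop :=
  ∀ (X : Over S) (t : X ⟶ T) (g : X ⟶ G), (t ≫ i) * g = g * (t ≫ i)

variable {K : Type u} [Field K]

/-- the character attached to a group-like element -/
noncomputable def charHom {A : Type u} [CommRing A] [HopfAlgebra K A] (d : GroupLike K A) :
    MonoidAlgebra K (Multiplicative ℤ) →ₐc[K] A :=
  (MonoidAlgebra.liftGroupLikeBialgHom (R := K) (A := A)).comp (MonoidAlgebra.mapDomainBialgHom K (zpowersHom _ d))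

lemma charHom_single {A : Type u} [CommRing A] [HopfAlgebra K A] (d : GroupLike K A) :
    charHom d (MonoidAlgebra.single (Multiplicative.ofAdd 1) 1) = (d : A) := by
  simp [charHom]

/-- cocentrality -/
theorem cocentral {A B : Type u} [CommRing A] [HopfAlgebra K A] [CommRing B] [HopfAlgebra K B] (π : A →ₐc[K] B)
    (h : IsCen (specMap K (π : A →ₐ[K] B))) (a : A) :
    TensorProduct.comm K _ _ (TensorProduct.map LinearMap.id (π : A →ₗ[K] B)
      (CoalgebraStruct.comul (R := K) a)) =
      TensorProduct.map (π : A →ₗ[K] B) LinearMap.id (CoalgebraStruct.comul (R := K) a) := by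
  have h1 := h (SpecOver K (B ⊗[K] A)) (specMap K (Algebra.TensorProduct.includeLeft : B →ₐ[K] B ⊗[K] A))
    (specMap K (Algebra.TensorProduct.includeRight : A →ₐ[K] B ⊗[K] A))
  rw [← specMap_comp] at h1
  have h2 := (specMap_mul K (WithConv.toConv ((Algebra.TensorProduct.includeLeft : B →ₐ[K] B ⊗[K] A).comp
    (π : A →ₐ[K] B))) (WithConv.toConv (Algebra.TensorProduct.includeRight : A →ₐ[K] B ⊗[K] A))).trans
    (h1.trans (specMap_mul K (WithConv.toConv (Algebra.TensorProduct.includeRight : A →ₐ[K] B ⊗[K] A))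
      (WithConv.toConv ((Algebra.TensorProduct.includeLeft : B →ₐ[K] B ⊗[K] A).comp
    (π : A →ₐ[K] B)))).symm)
  have h3 := congr($(specMap_injective K h2) a)
  rw [AlgHom.convMul_apply, AlgHom.convMul_apply] at h3
  have e1 : ∀ z : A ⊗[K] A, TensorProduct.comm K _ _ (TensorProduct.map LinearMap.id (π : A →ₗ[K] B) z) =
      Algebra.TensorProduct.lift (Algebra.TensorProduct.includeRight : A →ₐ[K] B ⊗[K] A)
        ((Algebra.TensorProduct.includeLeft : B →ₐ[K] B ⊗[K] A).comp (π : A →ₐ[K] B))
        (fun _ _ => Commute.all _ _) z := by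
    intro z
    induction z with
    | zero => simp
    | tmul x y => simp
    | add x y hx hy => rw [map_add, map_add, map_add, hx, hy]
  have e2 : ∀ z : A ⊗[K] A, TensorProduct.map (π : A →ₗ[K] B) LinearMap.id z =
      Algebra.TensorProduct.lift ((Algebra.TensorProduct.includeLeft : B →ₐ[K] B ⊗[K] A).comp (π : A →ₐ[K] B))
        (Algebra.TensorProduct.includeRight : A →ₐ[K] B ⊗[K] A) (fun _ _ => Commute.all _ _) z := by
    intro z
    induction z with
    | zero => simp
    | tmul x y => simp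
    | add x y hx hy => rw [map_add, map_add, hx, hy]
  rw [e1, e2]
  exact h3.symm

/-- **A non-trivial central torus is detected by a character.** -/
theorem exists_char_ne {G : Over (Spec (CommRingCat.of K))} [GrpObj G] [IsAffine G.left] {r : ℕ}
    (i : Red.DS (Spec (CommRingCat.of K)) (Fin r → ℤ) ⟶ G) [IsMonHom i] (hi : IsCen i) (h1 : i ≠ 1) :
    ∃ χ : G ⟶ Red.DS (Spec (CommRingCat.of K)) ℤ, IsMonHom χ ∧ i ≫ χ ≠ 1 := by
  obtain ⟨A, _, _, e, he⟩ := exists_hopf K G
  have hd := isMonHom_diagTo K (Fin r → ℤ)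
  have hd' := isIso_diagTo K (Fin r → ℤ)
  obtain ⟨π, hπ⟩ := exists_bialgHom_of_isMonHom K (diagTo K (Fin r → ℤ) ≫ i ≫ e.hom)
  have hcen : IsCen (specMap K (π : A →ₐ[K] MonoidAlgebra K (Multiplicative (Fin r → ℤ)))) := by
    intro X t g
    have h2 := hi X (t ≫ diagTo K (Fin r → ℤ)) (g ≫ e.inv)
    have he' : IsMonHom e.inv := inferInstance
    rw [hπ]
    have h3 := congrArg (fun z => z ≫ e.hom) h2
    simp only [MonObj.mul_comp, Category.assoc, Iso.inv_hom_id, Category.comp_id] at h3
    exact h3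
  -- `π` is not the counit
  obtain ⟨a, ha⟩ : ∃ a, π a ≠ algebraMap K _ (CoalgebraStruct.counit (R := K) a) := by
    by_contra hcon
    push Not at hcon
    apply h1
    rw [← cancel_epi (diagTo K (Fin r → ℤ)), ← cancel_mono e.hom, Category.assoc, ← hπ]
    have h2 : (π : A →ₐ[K] MonoidAlgebra K (Multiplicative (Fin r → ℤ))) =
        (1 : WithConv (A →ₐ[K] MonoidAlgebra K (Multiplicative (Fin r → ℤ)))).ofConv := by
      ext1 a
      exact hcon a
    rw [h2, specMap_one, MonObj.comp_one]
    exact (MonObj.one_comp e.hom).symm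
  obtain ⟨d, hdg, hd1⟩ := DetChar.exists_groupLike π (cocentral π hcen) (by
    intro γ hγ m n hmn
    have hmn' : m • (Multiplicative.toAdd γ) = n • (Multiplicative.toAdd γ) := hmn
    have hne : Multiplicative.toAdd γ ≠ 0 := hγ
    by_contra hc
    apply hne
    funext j
    have h5 := congrFun hmn' j
    simp only [Pi.smul_apply, nsmul_eq_mul] at h5
    have h6 : ((m : ℤ) - n) * (Multiplicative.toAdd γ) j = 0 := by rw [sub_mul, h5, sub_self]
    rcases mul_eq_zero.mp h6 with h7 | h7
    · exact absurd (by exact_mod_cast sub_eq_zero.mp h7) hc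
    · exact h7) a ha
  have hm1 : IsMonHom (specMap K (charHom (⟨d, hdg⟩ : GroupLike K A) :
      MonoidAlgebra K (Multiplicative ℤ) →ₐ[K] A)) := isMonHom_specMap K _
  have hm2 := isMonHom_diagTo K ℤ
  refine ⟨e.hom ≫ specMap K (charHom (⟨d, hdg⟩ : GroupLike K A) : MonoidAlgebra K (Multiplicative ℤ) →ₐ[K] A) ≫
    diagTo K ℤ, inferInstance, ?_⟩
  intro h2
  apply hd1
  have h3 : specMap K (π : A →ₐ[K] MonoidAlgebra K (Multiplicative (Fin r → ℤ))) ≫
      specMap K (charHom (⟨d, hdg⟩ : GroupLike K A) : MonoidAlgebra K (Multiplicative ℤ) →ₐ[K] A) ≫ diagTo K ℤ = 1 := by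
    rw [hπ]
    have h4 := congrArg (fun z => diagTo K (Fin r → ℤ) ≫ z) h2
    simpa only [MonObj.comp_one, Category.assoc] using h4
  rw [← Category.assoc, ← specMap_comp] at h3
  have h5 : specMap K ((π : A →ₐ[K] MonoidAlgebra K (Multiplicative (Fin r → ℤ))).comp
      (charHom (⟨d, hdg⟩ : GroupLike K A) : MonoidAlgebra K (Multiplicative ℤ) →ₐ[K] A)) =
      specMap K (1 : WithConv (MonoidAlgebra K (Multiplicative ℤ) →ₐ[K]
        MonoidAlgebra K (Multiplicative (Fin r → ℤ)))).ofConv := by
    have := isIso_diagTo K ℤ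
    rw [← cancel_mono (diagTo K ℤ), h3, specMap_one]
    exact (MonObj.one_comp (diagTo K ℤ)).symm
  have h6 := congr($(specMap_injective K h5) (MonoidAlgebra.single (Multiplicative.ofAdd 1) 1))
  change π (charHom (⟨d, hdg⟩ : GroupLike K A) (MonoidAlgebra.single (Multiplicative.ofAdd 1) 1)) = _ at h6
  rw [charHom_single] at h6
  rw [h6]
  change algebraMap K _ (CoalgebraStruct.counit (R := K) (MonoidAlgebra.single (Multiplicative.ofAdd (1 : ℤ)) (1 : K))) = 1
  rw [MonoidAlgebra.counit_single]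
  simp only [CommSemiring.counit_apply, map_one]

section Faithful

/-- the unit point -/
noncomputable def upt (G : Over (Spec (CommRingCat.of K))) [GrpObj G] : G.left :=
  (η[G]).left (IsLocalRing.closedPoint K)

lemma one_left_apply {X G : Over (Spec (CommRingCat.of K))} [GrpObj G] (x : X.left) :
    (1 : X ⟶ G).left x = upt G := by
  have h : (1 : X ⟶ G) = toUnit X ≫ η[G] := rfl
  rw [h, Over.comp_left]
  change (η[G]).left ((toUnit X).left x) = (η[G]).left (IsLocalRing.closedPoint K)
  congr 1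
  exact @Subsingleton.elim (PrimeSpectrum K) _ _ _

lemma eq_one_of_constant {X G : Over (Spec (CommRingCat.of K))} [GrpObj X] [GrpObj G] [IsReduced X.left]
    (f : X ⟶ G) [IsMonHom f] (h : ∀ x, f.left x = upt G) : f = 1 := by
  have h1 := TorKer.eq_of_constant f η[X] (fun x => by
    rw [h x, h])
  rw [h1, IsMonHom.one_hom]
  rfl

lemma isReduced_DS (M : Type) [AddCommGroup M] (hM : IsDomain (MonoidAlgebra K (Multiplicative M))) :
    IsReduced (Red.DS (Spec (CommRingCat.of K)) M).left := by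
  have h1 := isIso_diagTo K M
  have h2 : IsIso (diagTo K M).left := inferInstanceAs (IsIso ((Over.forget _).map (diagTo K M)))
  have h3 : IsReduced (SpecOver K (MonoidAlgebra K (Multiplicative M))).left :=
    inferInstanceAs (IsReduced (Spec (CommRingCat.of (MonoidAlgebra K (Multiplicative M)))))
  exact isReduced_of_isOpenImmersion (inv (diagTo K M).left)

lemma isClosed_upt (M : Type) [AddCommGroup M] : IsClosed {upt (Red.DS (Spec (CommRingCat.of K)) M)} := by
  let D := Red.DS (Spec (CommRingCat.of K)) M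
  have hsep : IsAffineHom D.hom := by
    change IsAffineHom (Limits.pullback.snd _ _)
    infer_instance
  have h0 : IsClosedImmersion (𝟙 (Spec (CommRingCat.of K))) := IsClosedImmersion.instOfIsIsoScheme _
  have h1 : IsClosedImmersion ((η[D] : 𝟙_ (Over (Spec (CommRingCat.of K))) ⟶ D).left ≫ D.hom) := by
    have : (η[D] : 𝟙_ (Over (Spec (CommRingCat.of K))) ⟶ D).left ≫ D.hom = 𝟙 _ := Over.w η[D]
    rw [this]
    exact h0
  have h2 : IsClosedImmersion (η[D] : 𝟙_ (Over (Spec (CommRingCat.of K))) ⟶ D).left :=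
    IsClosedImmersion.of_comp _ D.hom
  have h3 : IsClosed ({IsLocalRing.closedPoint K} : Set (PrimeSpectrum K)) :=
    (IsLocalRing.isClosed_singleton_closedPoint K)
  have h4 := (η[D] : 𝟙_ (Over (Spec (CommRingCat.of K))) ⟶ D).left.isClosedEmbedding.isClosedMap
    ({IsLocalRing.closedPoint K} : Set (PrimeSpectrum K)) h3
  have h5 : (η[D] : 𝟙_ (Over (Spec (CommRingCat.of K))) ⟶ D).left ''
      ({IsLocalRing.closedPoint K} : Set (PrimeSpectrum K)) = {upt D} := Set.image_singleton
  rw [h5] at h4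
  exact h4

lemma isMonHom_DSmap {S : Scheme.{u}} {M N : Type} [AddCommGroup M] [AddCommGroup N] (φ : M →+ N) :
    IsMonHom (Red.DSmap S φ) := by
  apply Sga3B.Pts.isMonHom_of_points
  intro X x y
  rw [← DSPts.dsEquiv_dsChar ((x * y) ≫ Red.DSmap S φ),
    ← DSPts.dsEquiv_dsChar (x ≫ Red.DSmap S φ), ← DSPts.dsEquiv_dsChar (y ≫ Red.DSmap S φ),
    ← map_mul]
  congr 1
  rw [DSPts.dsChar_DSmap, DSPts.dsChar_DSmap, DSPts.dsChar_DSmap, DSPts.dsChar_mul]
  rfl

/-- the kernel of a character, as a closed subset -/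
noncomputable def kset {G : Over (Spec (CommRingCat.of K))} (M : Type) [AddCommGroup M]
    (χ : G ⟶ Red.DS (Spec (CommRingCat.of K)) M) : TopologicalSpace.Closeds G.left :=
  ⟨χ.left ⁻¹' {upt (Red.DS (Spec (CommRingCat.of K)) M)},
    (isClosed_upt M).preimage χ.left.continuous⟩

lemma mem_kset {G : Over (Spec (CommRingCat.of K))} (M : Type) [AddCommGroup M]
    (χ : G ⟶ Red.DS (Spec (CommRingCat.of K)) M) (x : G.left) :
    x ∈ kset M χ ↔ χ.left x = upt (Red.DS (Spec (CommRingCat.of K)) M) := Iff.rfl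

lemma hom_upt {G H : Over (Spec (CommRingCat.of K))} [GrpObj G] [GrpObj H] (f : G ⟶ H) [IsMonHom f] :
    f.left (upt G) = upt H := by
  have h : η[G] ≫ f = η[H] := IsMonHom.one_hom f
  unfold upt
  rw [← h]
  rfl

/-- **Finitely many characters detect all central tori.** -/
theorem exists_faithful_char (G : Over (Spec (CommRingCat.of K))) [GrpObj G] [IsAffine G.left]
    [LocallyOfFiniteType G.hom] :
    ∃ (M : Type) (_ : AddCommGroup M) (_ : Module.Finite ℤ M) (χ : G ⟶ Red.DS (Spec (CommRingCat.of K)) M)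
      (_ : IsMonHom χ), ∀ (r : ℕ) (i : Red.DS (Spec (CommRingCat.of K)) (Fin r → ℤ) ⟶ G) [IsMonHom i],
        IsCen i → i ≫ χ = 1 → i = 1 := by
  have hqc : QuasiCompact G.hom := inferInstance
  have hnoeth : IsNoetherian G.left := by
    have h1 : IsLocallyNoetherian G.left := LocallyOfFiniteType.isLocallyNoetherian G.hom
    have h2 : CompactSpace G.left := (quasiCompact_iff_compactSpace (f := G.hom)).mp inferInstance
    exact {}
  let 𝒮 : Set (TopologicalSpace.Closeds G.left) := {Z | ∃ (M : Type) (_ : AddCommGroup M) (_ : Module.Finite ℤ M)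
    (χ : G ⟶ Red.DS (Spec (CommRingCat.of K)) M) (_ : IsMonHom χ), Z = kset M χ}
  have hne : 𝒮.Nonempty := ⟨_, ℤ, inferInstance, inferInstance, 1,
    Sga3B.Pts.isMonHom_of_points _ fun X x y => by
      rw [MonObj.comp_one, MonObj.comp_one, MonObj.comp_one, _root_.mul_one], rfl⟩
  obtain ⟨_, ⟨M, _, _, χ, _, rfl⟩, hmin⟩ := WellFounded.has_min
    (wellFounded_lt (α := TopologicalSpace.Closeds G.left)) 𝒮 hne
  refine ⟨M, inferInstance, inferInstance, χ, inferInstance, ?_⟩
  intro r i _ hi hiχ
  by_contra h1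
  obtain ⟨d, _, hd⟩ := exists_char_ne i hi h1
  -- the combined character
  let w : Multiplicative (M × ℤ) →* Γ(G.left, ⊤) :=
    { toFun := fun m => DSPts.dsChar χ (Multiplicative.ofAdd (Multiplicative.toAdd m).1) *
        DSPts.dsChar d (Multiplicative.ofAdd (Multiplicative.toAdd m).2)
      map_one' := by
        change DSPts.dsChar χ 1 * DSPts.dsChar d 1 = 1
        rw [map_one, map_one, _root_.mul_one]
      map_mul' := fun a b => by
        change DSPts.dsChar χ (Multiplicative.ofAdd (Multiplicative.toAdd a).1 *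
          Multiplicative.ofAdd (Multiplicative.toAdd b).1) *
          DSPts.dsChar d (Multiplicative.ofAdd (Multiplicative.toAdd a).2 *
          Multiplicative.ofAdd (Multiplicative.toAdd b).2) = _
        rw [map_mul, map_mul]
        ring }
  let χ' : G ⟶ Red.DS (Spec (CommRingCat.of K)) (M × ℤ) := DSPts.dsEquiv G (M × ℤ) w
  let p1 : Red.DS (Spec (CommRingCat.of K)) (M × ℤ) ⟶ Red.DS (Spec (CommRingCat.of K)) M :=
    Red.DSmap _ (AddMonoidHom.inl M ℤ)
  let p2 : Red.DS (Spec (CommRingCat.of K)) (M × ℤ) ⟶ Red.DS (Spec (CommRingCat.of K)) ℤ :=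
    Red.DSmap _ (AddMonoidHom.inr M ℤ)
  have hp1 : IsMonHom p1 := isMonHom_DSmap _
  have hp2 : IsMonHom p2 := isMonHom_DSmap _
  have e1 : χ' ≫ p1 = χ := by
    rw [DSPts.dsEquiv_DSmap]
    apply (DSPts.dsEquiv G M).symm.injective
    change DSPts.dsChar _ = DSPts.dsChar _
    rw [DSPts.dsChar_dsEquiv]
    refine MonoidHom.ext fun m => ?_
    change DSPts.dsChar χ m * DSPts.dsChar d 1 = _
    rw [map_one, _root_.mul_one]
  have e2 : χ' ≫ p2 = d := by
    rw [DSPts.dsEquiv_DSmap]
    apply (DSPts.dsEquiv G ℤ).symm.injective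
    change DSPts.dsChar _ = DSPts.dsChar _
    rw [DSPts.dsChar_dsEquiv]
    refine MonoidHom.ext fun m => ?_
    change DSPts.dsChar χ 1 * DSPts.dsChar d m = _
    rw [map_one, _root_.one_mul]
  have hχ' : IsMonHom χ' := by
    apply Sga3B.Pts.isMonHom_of_points
    intro X x y
    apply (DSPts.dsEquiv X (M × ℤ)).symm.injective
    change DSPts.dsChar _ = DSPts.dsChar _
    have h3 : (x * y) ≫ χ = (x ≫ χ) * (y ≫ χ) := MonObj.mul_comp _ _ _
    have h4 : (x * y) ≫ d = (x ≫ d) * (y ≫ d) := MonObj.mul_comp _ _ _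
    have h5 := congrArg DSPts.dsChar h3
    have h6 := congrArg DSPts.dsChar h4
    rw [DSPts.dsChar_mul, DSPts.dsChar_comp, DSPts.dsChar_comp, DSPts.dsChar_comp] at h5 h6
    rw [DSPts.dsChar_mul, DSPts.dsChar_comp, DSPts.dsChar_comp, DSPts.dsChar_comp, DSPts.dsChar_dsEquiv]
    refine MonoidHom.ext fun m => ?_
    have h7 := congr($h5 (Multiplicative.ofAdd (Multiplicative.toAdd m).1))
    have h8 := congr($h6 (Multiplicative.ofAdd (Multiplicative.toAdd m).2))
    change (x * y).left.appTop (DSPts.dsChar χ (Multiplicative.ofAdd (Multiplicative.toAdd m).1) *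
        DSPts.dsChar d (Multiplicative.ofAdd (Multiplicative.toAdd m).2)) =
      x.left.appTop (DSPts.dsChar χ (Multiplicative.ofAdd (Multiplicative.toAdd m).1) *
        DSPts.dsChar d (Multiplicative.ofAdd (Multiplicative.toAdd m).2)) *
      y.left.appTop (DSPts.dsChar χ (Multiplicative.ofAdd (Multiplicative.toAdd m).1) *
        DSPts.dsChar d (Multiplicative.ofAdd (Multiplicative.toAdd m).2))
    change (x * y).left.appTop (DSPts.dsChar χ (Multiplicative.ofAdd (Multiplicative.toAdd m).1)) =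
      x.left.appTop (DSPts.dsChar χ (Multiplicative.ofAdd (Multiplicative.toAdd m).1)) *
      y.left.appTop (DSPts.dsChar χ (Multiplicative.ofAdd (Multiplicative.toAdd m).1)) at h7
    change (x * y).left.appTop (DSPts.dsChar d (Multiplicative.ofAdd (Multiplicative.toAdd m).2)) =
      x.left.appTop (DSPts.dsChar d (Multiplicative.ofAdd (Multiplicative.toAdd m).2)) *
      y.left.appTop (DSPts.dsChar d (Multiplicative.ofAdd (Multiplicative.toAdd m).2)) at h8
    rw [map_mul, map_mul, map_mul, h7, h8]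
    ring
  have hmem : kset (M × ℤ) χ' ∈ 𝒮 := ⟨M × ℤ, inferInstance, inferInstance, χ', hχ', rfl⟩
  refine hmin _ hmem ?_
  refine lt_of_le_of_ne ?_ ?_
  · intro x hx
    change χ'.left x = _ at hx
    change χ.left x = _
    rw [← e1, Over.comp_left]
    change p1.left (χ'.left x) = _
    rw [hx]
    exact @hom_upt _ _ _ _ _ _ p1 hp1
  · intro heq
    apply hd
    have hred := isReduced_DS (K := K) (Fin r → ℤ) inferInstance
    apply eq_one_of_constant
    intro x
    have h2 : i.left x ∈ kset M χ := by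
      rw [mem_kset]
      have : (i ≫ χ).left x = upt _ := by rw [hiχ, one_left_apply]
      exact this
    rw [← heq, mem_kset] at h2
    rw [← e2]
    change p2.left (χ'.left (i.left x)) = _
    rw [h2]
    exact @hom_upt _ _ _ _ _ _ p2 hp2

end Faithful

end Groth.Agent.Sga3.H805.CharK
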