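import Groth.Agent.Sga3.H805.CharK
import Groth.Agent.Sga3B.AdAff
import Groth.Agent.Sga3B.BcNat

/-!
# Homomorphisms detecting central tori

`Det φ k x`: the base change of `φ : G ⟶ H` along `x : Spec k ⟶ S` kills no non-trivial central torus.

* `det_bc_iff`: compatibility with base change;
* `eq_one_of_locallyQuasiFinite`: quasi-finite homomorphisms kill no torus;
* `locallyQuasiFinite`: `(Ad, φ)` is quasi-finite if `φ` detects central tori on the (reductive) geometric fibres;
* `det_extend`: extension of the algebraically closed field.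
-/

set_option autoImplicit false
set_option linter.dupNamespace false

universe u

open CategoryTheory MonoidalCategory CartesianMonoidalCategory MonObj GrpObj AlgebraicGeometry Limits

namespace Groth.Agent.Sga3.H805.Det

open Groth.Agent.Sga3B BcPts CharK KerGrp

variable {S S' : Scheme.{u}}

/-- Centrality of points of a base change. -/
lemma isCen_bcEquiv_iff (f : S' ⟶ S) {T : Over S'} {G : Over S} [GrpObj G] (g : (Over.map f).obj T ⟶ G) :
    IsCen (bcEquiv f T G g) ↔ IsCen g := by
  constructor
  · intro h X p y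
    let X' : Over S' := Over.mk (p.left ≫ T.hom)
    let e : (Over.map f).obj X' ≅ X := Over.isoMk (Iso.refl _) (by
      have h1 := Over.w p
      simp only [Over.map_obj_hom] at h1
      simp [X', h1])
    let p' : X' ⟶ T := Over.homMk p.left rfl
    have hp : e.hom ≫ p = (Over.map f).map p' := by
      ext1
      simp [e, p']
    have h1 := h X' p' (bcEquiv f X' G (e.hom ≫ y))
    have h2 : p' ≫ bcEquiv f T G g = bcEquiv f X' G (e.hom ≫ p ≫ g) := by
      rw [← comp_bcEquiv, ← hp, Category.assoc]
    rw [h2, ← bcEquiv_mul, ← bcEquiv_mul, ← MonObj.comp_mul, ← MonObj.comp_mul] at h1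
    exact (cancel_epi e.hom).mp ((bcEquiv f X' G).injective h1)
  · intro h X p y
    apply (bcMulEquiv f X G).symm.injective
    rw [map_mul, map_mul]
    have e1 : (bcMulEquiv f X G).symm (p ≫ bcEquiv f T G g) = (Over.map f).map p ≫ g := by
      have := comp_bcEquiv_symm (f := f) p (bcEquiv f T G g)
      rw [Equiv.symm_apply_apply] at this
      exact this
    rw [e1]
    exact h _ _ _

/-- The base change of `φ` along `x : Spec k ⟶ S` kills no non-trivial central torus. -/
def Det {G H : Over S} [GrpObj G] [GrpObj H] (φ : G ⟶ H) (k : Type u) [Field k]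
    (x : Spec (CommRingCat.of k) ⟶ S) : Prop :=
  ∀ (r : ℕ) (i : Red.DS (Spec (CommRingCat.of k)) (Fin r → ℤ) ⟶ Red.bc x G) [IsMonHom i], IsCen i →
    i ≫ (Over.pullback x).map φ = 1 → i = 1

/-- centrality is invariant under isomorphisms of the target -/
lemma isCen_comp_iso {T G H : Over S} [GrpObj G] [GrpObj H] (i : T ⟶ G) (e : G ≅ H) [IsMonHom e.hom] :
    IsCen (i ≫ e.hom) ↔ IsCen i := by
  have he : IsMonHom e.inv := inferInstance
  constructor
  · intro h X t g
    have h1 := congrArg (fun z => z ≫ e.inv) (h X t (g ≫ e.hom))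
    simp only [MonObj.mul_comp, Category.assoc, Iso.hom_inv_id, Category.comp_id] at h1
    exact h1
  · intro h X t g
    have h1 := congrArg (fun z => z ≫ e.hom) (h X t (g ≫ e.inv))
    simp only [MonObj.mul_comp, Category.assoc, Iso.inv_hom_id, Category.comp_id] at h1
    exact h1

lemma comp_iso_eq_one {T G H : Over S} [GrpObj G] [GrpObj H] (i : T ⟶ G) (e : G ≅ H) [IsMonHom e.hom] :
    i ≫ e.hom = 1 ↔ i = 1 := by
  constructor
  · intro h
    rw [← cancel_mono e.hom, h]
    exact (MonObj.one_comp e.hom).symm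
  · rintro rfl
    exact MonObj.one_comp e.hom

/-- `Det` is compatible with base change. -/
theorem det_bc_iff {G H : Over S} [GrpObj G] [GrpObj H] (φ : G ⟶ H) (f : S' ⟶ S) (k : Type u) [Field k]
    (x : Spec (CommRingCat.of k) ⟶ S') : Det ((Over.pullback f).map φ) k x ↔ Det φ k (x ≫ f) := by
  let eG := RedIso.und (BcIso.bcCompIso x f G)
  let eH := RedIso.und (BcIso.bcCompIso x f H)
  have hG : IsMonHom eG.hom := inferInstanceAs (IsMonHom (BcIso.bcCompIso x f G).hom.hom.hom)
  have hH : IsMonHom eH.hom := inferInstanceAs (IsMonHom (BcIso.bcCompIso x f H).hom.hom.hom)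
  have hG' : IsMonHom eG.inv := inferInstance
  have hnat : eG.hom ≫ (Over.pullback x).map ((Over.pullback f).map φ) = (Over.pullback (x ≫ f)).map φ ≫ eH.hom :=
    BcNat.comp_nat x f φ
  constructor
  · intro h r i _ hi hφ
    rw [← comp_iso_eq_one i eG]
    refine h r (i ≫ eG.hom) ((isCen_comp_iso i eG).mpr hi) ?_
    rw [Category.assoc, hnat, ← Category.assoc, hφ]
    exact MonObj.one_comp eH.hom
  · intro h r i _ hi hφ
    have h1 : (i ≫ eG.inv) ≫ eG.hom = i := by simp
    have h2 := h r (i ≫ eG.inv) ((isCen_comp_iso (i ≫ eG.inv) eG).mp (by rwa [h1])) (by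
      rw [← comp_iso_eq_one _ eH, Category.assoc, ← hnat, ← Category.assoc, h1, hφ])
    rw [← h1, h2]
    exact MonObj.one_comp eG.hom

open Groth.Agent.Books.AffBridge RG.BrDiag in
lemma isIntegral_DS (k : Type u) [Field k] (r : ℕ) :
    IsIntegral (Red.DS (Spec (CommRingCat.of k)) (Fin r → ℤ)).left := by
  have h1 := isIso_diagTo k (Fin r → ℤ)
  have h2 : IsIso (diagTo k (Fin r → ℤ)).left := inferInstanceAs (IsIso ((Over.forget _).map (diagTo k (Fin r → ℤ))))
  have hd : IsDomain (MonoidAlgebra k (Multiplicative (Fin r → ℤ))) := inferInstance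
  have h3 : IsIntegral (Spec (CommRingCat.of (MonoidAlgebra k (Multiplicative (Fin r → ℤ))))) := inferInstance
  have h4 : IsIntegral (SpecOver k (MonoidAlgebra k (Multiplicative (Fin r → ℤ)))).left := h3
  have : Nonempty (Red.DS (Spec (CommRingCat.of k)) (Fin r → ℤ)).left :=
    ⟨(diagTo k (Fin r → ℤ)).left (Nonempty.some inferInstance)⟩
  exact isIntegral_of_isOpenImmersion (inv (diagTo k (Fin r → ℤ)).left)

/-- **Quasi-finite homomorphisms kill no torus.** -/
theorem eq_one_of_locallyQuasiFinite {G H : Over S} [GrpObj G] [GrpObj H] (h : G ⟶ H) [IsMonHom h]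
    [LocallyQuasiFinite h.left] {k : Type u} [Field k] (x : Spec (CommRingCat.of k) ⟶ S) {r : ℕ}
    (i : Red.DS (Spec (CommRingCat.of k)) (Fin r → ℤ) ⟶ Red.bc x G) [IsMonHom i]
    (hi : i ≫ (Over.pullback x).map h = 1) : i = 1 := by
  -- the kernel is quasi-finite
  have h1 : LocallyQuasiFinite (kerObj h).hom := by
    change LocallyQuasiFinite (pullback.snd h.left (η[H] : 𝟙_ (Over S) ⟶ H).left)
    infer_instance
  have h2 : LocallyQuasiFinite (Red.bc x (kerObj h)).hom := by
    change LocallyQuasiFinite (pullback.snd (kerObj h).hom x)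
    infer_instance
  have h3 : IsLocallyArtinian (Red.bc x (kerObj h)).left := IsLocallyArtinian.of_locallyQuasiFinite (Red.bc x (kerObj h)).hom
  have h4 : DiscreteTopology (Red.bc x (kerObj h)).left := inferInstance
  have h5 : ((bcEquiv x _ G).symm i) ≫ h = 1 := by
    rw [← bcEquiv_symm_comp, hi]
    exact (bcMulEquiv x _ H).symm.map_one
  obtain ⟨t, ht⟩ := exists_lift h _ h5
  let t' := bcEquiv x _ (kerObj h) t
  have ht' : t' ≫ (Over.pullback x).map (kerι h) = i := by
    rw [← bcEquiv_comp, ht, Equiv.apply_symm_apply]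
  have hint := isIntegral_DS k r
  have h6 := TorKer.eq_of_discrete t' η[Red.DS (Spec (CommRingCat.of k)) (Fin r → ℤ)]
  have h7 : i = toUnit _ ≫ η[Red.DS (Spec (CommRingCat.of k)) (Fin r → ℤ)] ≫ i := by
    conv_lhs => rw [← ht', h6]
    rw [Category.assoc, Category.assoc, ht']
  rw [h7, IsMonHom.one_hom]
  rfl

open FreeBC DSAffPts AdRep in
/-- **Quasi-finiteness of the adjoint representation together with a homomorphism detecting central tori.** -/
theorem locallyQuasiFinite {R B : Type u} [CommRing R] [CommRing B] [Algebra R B]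
    {G H H' : Over (Spec (CommRingCat.of R))} [GrpObj G] [GrpObj H] [GrpObj H'] [LocallyOfFiniteType G.hom]
    [QuasiCompact G.hom] [IsSeparated H.hom]
    (w : DE R B ⟶ G) [IsOpenImmersion w.left] (eW : 𝟙_ (Over (Spec (CommRingCat.of R))) ⟶ DE R B)
    (heW : eW ≫ w = η) (f : G ⟶ H) [IsMonHom f] [QuasiCompact f.left]
    (hf : ∀ {T : Over (Spec (CommRingCat.of R))} (g : T ⟶ G), g ≫ f = 1 →
      ∀ (X : Over (Spec (CommRingCat.of R))) (p : X ⟶ T) (d : X ⟶ DE R (B ⧸ augIdeal eW ^ 2)),
      (p ≫ g) * (d ≫ quotMap _ ≫ w) * (p ≫ g)⁻¹ = d ≫ quotMap _ ≫ w)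
    (φ : G ⟶ H') (hφ : ∀ {T : Over (Spec (CommRingCat.of R))} (g : T ⟶ G), g ≫ f = 1 → g ≫ φ = 1)
    (hred : ∀ s : Spec (CommRingCat.of R), ∃ (K : Type u) (_ : Field K) (_ : IsAlgClosed K)
      (t : Spec (CommRingCat.of K) ⟶ Spec (CommRingCat.of R)), t (IsLocalRing.closedPoint K) = s ∧
        Red.IsReductiveOver K (Red.bc t G) ∧ Det φ K t) :
    LocallyQuasiFinite f.left := by
  apply locallyQuasiFinite_of_ker
  obtain ⟨_, _⟩ := exists_grpObj f
  have hlft : LocallyOfFiniteType (kerObj f).hom := by
    rw [← Over.w (kerι f)]; infer_instance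
  have hqc : QuasiCompact (kerObj f).hom := by
    rw [← Over.w (kerι f)]; infer_instance
  refine LocallyQuasiFinite.of_finite_preimage_singleton _ fun s => ?_
  obtain ⟨K, _, _, t, hts, hs, hdet⟩ := hred s
  have hGaff : IsAffine (Red.bc t G).left := hs.1
  obtain ⟨A, _, _, ⟨e⟩⟩ := exists_iso_DE (Red.bc t G)
  have hcl : IsClosedImmersion ((Over.pullback t).map (kerι f)).left := isClosedImmersion_bc f t
  have hdisc : DiscreteTopology (Red.bc t (kerObj f)).left := by
    rcases TorKer.discrete_or_exists hs e.hom (η ≫ e.inv) (by simp)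
      ((Over.pullback t).map (kerι f)) (isNormalHom_bc f t)
      (AdQF.centralizes_bc w eW heW (kerι f) (fun X p d => hf (kerι f) (kerι_comp f) X p d) t e.hom
        (η ≫ e.inv) (by simp)) with h | ⟨r, i, hi, hi1, hcen⟩
    · exact h
    · exfalso
      apply hi1
      have h1 : i ≫ (Over.pullback t).map (kerι f) = 1 := by
        refine hdet r (i ≫ (Over.pullback t).map (kerι f)) hcen ?_
        rw [Category.assoc, ← Functor.map_comp, hφ (kerι f) (kerι_comp f), Functor.map_one, MonObj.comp_one]
      have hmono : Mono ((Over.pullback t).map (kerι f)) := inferInstance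
      rw [← cancel_mono ((Over.pullback t).map (kerι f)), h1]
      exact (MonObj.one_comp ((Over.pullback t).map (kerι f))).symm
  have hcomp : CompactSpace (Red.bc t (kerObj f)).left := by
    have : QuasiCompact (Red.bc t (kerObj f)).hom :=
      inferInstanceAs (QuasiCompact (pullback.snd _ _))
    exact (quasiCompact_iff_compactSpace _).mp this
  have hfin : Finite ↥(pullback (kerObj f).hom t) :=
    @finite_of_compact_of_discrete (Red.bc t (kerObj f)).left _ hcomp hdisc
  refine (Set.finite_range (pullback.fst (kerObj f).hom t)).subset ?_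
  intro x hx
  have hx' : (kerObj f).hom x = t (IsLocalRing.closedPoint K) := by
    rw [hx, hts]
  obtain ⟨z, hz, -⟩ := Scheme.Pullback.exists_preimage_pullback (f := (kerObj f).hom) (g := t) x _ hx'
  exact ⟨z, hz⟩

/-- a central point centralizes everything -/
lemma isCen_conj {T G : Over S} [GrpObj G] {g : T ⟶ G} (hg : IsCen g) {X : Over S} (p : X ⟶ T) (y : X ⟶ G) :
    (p ≫ g) * y * (p ≫ g)⁻¹ = y := by
  rw [hg X p y, mul_inv_cancel_right]

open FreeBC DSAffPts AdRep GLn in
/-- **A quasi-finite homomorphism to an affine group** around the unit section. -/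
theorem exists_qf {R B : Type u} [CommRing R] [CommRing B] [Algebra R B] [Algebra.IsStandardSmooth R B]
    {G H' : Over (Spec (CommRingCat.of R))} [GrpObj G] [GrpObj H'] [LocallyOfFiniteType G.hom]
    [QuasiCompact G.hom] [QuasiSeparated G.hom] [IsAffineHom H'.hom]
    (w : DE R B ⟶ G) [IsOpenImmersion w.left] (eW : 𝟙_ (Over (Spec (CommRingCat.of R))) ⟶ DE R B)
    (heW : eW ≫ w = η) (φ : G ⟶ H') [IsMonHom φ]
    (hred : ∀ s : Spec (CommRingCat.of R), ∃ (K : Type u) (_ : Field K) (_ : IsAlgClosed K)
      (t : Spec (CommRingCat.of K) ⟶ Spec (CommRingCat.of R)), t (IsLocalRing.closedPoint K) = s ∧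
        Red.IsReductiveOver K (Red.bc t G) ∧ Det φ K t) :
    ∃ (H : Over (Spec (CommRingCat.of R))) (_ : GrpObj H) (h : G ⟶ H) (_ : IsMonHom h),
      IsAffineHom H.hom ∧ (LocallyOfFiniteType H'.hom → LocallyOfFiniteType H.hom) ∧ LocallyQuasiFinite h.left ∧
      ∀ {T : Over (Spec (CommRingCat.of R))} (g : T ⟶ G), IsCen g → g ≫ φ = 1 → g ≫ h = 1 := by
  classical
  obtain ⟨ε, -, hε⟩ := CentralTorus.exists_augHom eW
  have haug : augIdeal eW = RingHom.ker ε := Ideal.ext hε
  obtain ⟨h1, h2⟩ := FreeNbhd.free_nbhd ε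
  rw [← haug] at h1 h2
  have hc : CompactSpace G.left := (quasiCompact_iff_compactSpace G.hom).mp inferInstance
  have hq : QuasiSeparatedSpace G.left := (quasiSeparated_iff_quasiSeparatedSpace G.hom).mp inferInstance
  obtain ⟨f, hf, hker⟩ := exists_adRep w eW heW
    (Module.Free.chooseBasis R (B ⧸ augIdeal eW ^ 2))
  let m := Module.Free.ChooseBasisIndex R (B ⧸ augIdeal eW ^ 2)
  let H := GLS m (Spec (CommRingCat.of R)) ⊗ H'
  let h : G ⟶ H := lift f φ
  have hHa : IsAffineHom H.hom := by
    have a1 : IsAffineHom (pullback.fst (GLS m (Spec (CommRingCat.of R))).hom H'.hom) :=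
      MorphismProperty.pullback_fst (P := @IsAffineHom) _ _ inferInstance
    have a2 : IsAffineHom (GLS m (Spec (CommRingCat.of R))).hom := inferInstance
    exact MorphismProperty.comp_mem @IsAffineHom _ _ a1 a2
  have hone : ∀ {T : Over (Spec (CommRingCat.of R))} (g : T ⟶ G), g ≫ h = 1 ↔ g ≫ f = 1 ∧ g ≫ φ = 1 := by
    intro T g
    constructor
    · intro hg
      have h3 := congrArg (fun z => z ≫ fst _ _) hg
      have h4 := congrArg (fun z => z ≫ snd _ _) hg
      simp only [Category.assoc, h, lift_fst, lift_snd, MonObj.one_comp] at h3 h4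
      exact ⟨h3, h4⟩
    · rintro ⟨h3, h4⟩
      apply CartesianMonoidalCategory.hom_ext
      · rw [Category.assoc, lift_fst, h3]
        exact (MonObj.one_comp (fst _ _)).symm
      · rw [Category.assoc, lift_snd, h4]
        exact (MonObj.one_comp (snd _ _)).symm
  have hqc : QuasiCompact h.left := by
    have : QuasiCompact (h.left ≫ H.hom) := by rw [Over.w]; infer_instance
    exact QuasiCompact.of_comp h.left H.hom
  refine ⟨H, inferInstance, h, inferInstance, hHa, fun hlft => ?_, ?_, fun g hg hgφ => ?_⟩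
  · change LocallyOfFiniteType (pullback.fst (GLS m (Spec (CommRingCat.of R))).hom H'.hom ≫
      (GLS m (Spec (CommRingCat.of R))).hom)
    infer_instance
  · exact locallyQuasiFinite w eW heW h (fun g hg => (hker g).mp ((hone g).mp hg).1) φ
      (fun g hg => ((hone g).mp hg).2) hred
  · rw [hone, hker]
    exact ⟨fun X p d => isCen_conj hg p _, hgφ⟩

/-- `Det` from a quasi-finite homomorphism killing the central points killed by `φ`. -/
theorem det_of_qf {G H H' : Over S} [GrpObj G] [GrpObj H] [GrpObj H'] (φ : G ⟶ H') (h : G ⟶ H) [IsMonHom h]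
    [LocallyQuasiFinite h.left] (hh : ∀ {T : Over S} (g : T ⟶ G), IsCen g → g ≫ φ = 1 → g ≫ h = 1)
    {k : Type u} [Field k] (x : Spec (CommRingCat.of k) ⟶ S) : Det φ k x := by
  intro r i _ hi hφ
  apply eq_one_of_locallyQuasiFinite h x i
  have h1 : IsCen ((bcEquiv x _ G).symm i) := by
    rw [← isCen_bcEquiv_iff x, Equiv.apply_symm_apply]
    exact hi
  have h2 : ((bcEquiv x _ G).symm i) ≫ φ = 1 := by
    rw [← bcEquiv_symm_comp, hφ]
    exact (bcMulEquiv x _ H').symm.map_one
  have h3 := hh _ h1 h2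
  have h4 := congrArg (bcEquiv x _ H) h3
  rw [bcEquiv_comp, Equiv.apply_symm_apply, bcEquiv_one] at h4
  exact h4

/-- **Extension of the algebraically closed field.** -/
theorem det_extend {G H : Over S} [GrpObj G] [GrpObj H] (φ : G ⟶ H) [IsMonHom φ] [IsAffineHom H.hom]
    {L : Type u} [Field L] [IsAlgClosed L] (x : Spec (CommRingCat.of L) ⟶ S)
    (hred : Red.IsReductiveOver L (Red.bc x G)) (hdet : Det φ L x) {k : Type u} [Field k]
    (y : Spec (CommRingCat.of k) ⟶ Spec (CommRingCat.of L)) : Det φ k (y ≫ x) := by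
  have hsm : Smooth (Red.bc x G).hom := hred.2.1
  have haff : IsAffine (Red.bc x G).left := hred.1
  obtain ⟨R, B, _, _, _, q, w, eW, hq, hs, hst, hw, heW⟩ :=
    AdAff.exists_chart (Red.bc x G) (IsLocalRing.closedPoint L)
  have hsub : Subsingleton (Spec (CommRingCat.of L)) := inferInstanceAs (Subsingleton (PrimeSpectrum L))
  have hsurj : Surjective q := ⟨fun z => by
    obtain ⟨a, ha⟩ := hs
    exact ⟨a, ha.trans (Subsingleton.elim _ _)⟩⟩
  have hiso : IsIso q := by
    have : Epi q.base := (TopCat.epi_iff_surjective _).mpr hsurj.1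
    exact IsOpenImmersion.isIso q
  let t : Spec (CommRingCat.of L) ⟶ Spec (CommRingCat.of R) := inv q
  have htq : t ≫ q = 𝟙 _ := IsIso.inv_hom_id q
  have hpt : ∀ s : Spec (CommRingCat.of R), t (IsLocalRing.closedPoint L) = s := fun s =>
    q.isOpenEmbedding.injective (Subsingleton.elim _ _)
  have hred1 : Red.IsReductiveOver L (Red.bc t (Red.bc q (Red.bc x G))) :=
    RedIso.isReductiveOver_of_iso (BcIso.bcCompIso t q (Red.bc x G))
      (RedIso.isReductiveOver_of_iso ((BcIso.bcIdIso (Red.bc x G)).symm ≪≫ BcIso.bcCongrIso htq.symm (Red.bc x G)) hred)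
  have hdet0 : Det ((Over.pullback q).map ((Over.pullback x).map φ)) L t := by
    rw [det_bc_iff, det_bc_iff, htq, Category.id_comp]
    exact hdet
  have hHa : IsAffineHom (Red.bc q (Red.bc x H)).hom := by
    have a1 : IsAffineHom (Red.bc x H).hom := MorphismProperty.pullback_snd (P := @IsAffineHom) _ _ inferInstance
    exact MorphismProperty.pullback_snd (P := @IsAffineHom) _ _ a1
  have g1 : LocallyOfFiniteType (Red.bc q (Red.bc x G)).hom := by
    change LocallyOfFiniteType (pullback.snd (Red.bc x G).hom q)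
    infer_instance
  have g2 : QuasiCompact (Red.bc q (Red.bc x G)).hom := by
    change QuasiCompact (pullback.snd (Red.bc x G).hom q)
    infer_instance
  have g3 : QuasiSeparated (Red.bc q (Red.bc x G)).hom := by
    change QuasiSeparated (pullback.snd (Red.bc x G).hom q)
    infer_instance
  obtain ⟨H₁, _, h, _, -, -, hqf, hh⟩ := exists_qf w eW heW ((Over.pullback q).map ((Over.pullback x).map φ))
    (fun s => ⟨L, inferInstance, inferInstance, t, hpt s, hred1, hdet0⟩)
  have h1 := det_of_qf ((Over.pullback q).map ((Over.pullback x).map φ)) h hh (y ≫ t)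
  rw [det_bc_iff, det_bc_iff, Category.assoc, Category.assoc] at h1
  rw [← Category.assoc t, htq, Category.id_comp] at h1
  exact h1

end Groth.Agent.Sga3.H805.Det
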