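import Groth.Agent.Sga3.H805.DetSpec
import Groth.Agent.Sga3B.AffDvrBase789
import Groth.Agent.Sga3B.RadOpen.Main
import Groth.Agent.Ega43.DvrScheme
import Groth.Agent.S2958

/-!
# Specialization of `Det` over a locally noetherian base
-/

set_option autoImplicit false

universe u

open CategoryTheory MonoidalCategory CartesianMonoidalCategory MonObj GrpObj AlgebraicGeometry Limits

namespace Groth.Agent.Sga3.H805.DetAll

open Groth.Agent.Sga3B BcPts CharK Det AffDvrGrp789 AffDvrBase789

variable {S : Scheme.{u}}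

/-- `Det` and isomorphisms of the target. -/
lemma det_comp_iso {G H H' : Over S} [GrpObj G] [GrpObj H] [GrpObj H'] (φ : G ⟶ H) (e : Grp.mk H ≅ Grp.mk H')
    (k : Type u) [Field k] (x : Spec (CommRingCat.of k) ⟶ S) :
    Det (φ ≫ e.hom.hom.hom) k x ↔ Det φ k x := by
  let E := RedIso.und (BcIso.bcMapIso x e)
  have hE : IsMonHom E.hom := inferInstanceAs (IsMonHom (BcIso.bcMapIso x e).hom.hom.hom)
  have h1 : ∀ {T : Over (Spec (CommRingCat.of k))} (i : T ⟶ Red.bc x G),
      i ≫ (Over.pullback x).map (φ ≫ e.hom.hom.hom) = 1 ↔ i ≫ (Over.pullback x).map φ = 1 := by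
    intro T i
    rw [Functor.map_comp, ← Category.assoc]
    exact comp_iso_eq_one (i ≫ (Over.pullback x).map φ) E
  constructor
  · intro h r i _ hi hφ
    exact h r i hi ((h1 i).mpr hφ)
  · intro h r i _ hi hφ
    exact h r i hi ((h1 i).mp hφ)

/-- A discrete valuation ring is enough. -/
theorem isReductive_dvr {O : Type u} [CommRing O] [IsDomain O] [IsDiscreteValuationRing O]
    (f : Spec (CommRingCat.of O) ⟶ S) (G : Over S) [GrpObj G] [Smooth G.hom] [QuasiCompact G.hom]
    [GeometricallyIrreducible G.hom] (haff : AffFib G.hom)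
    (hred : ∀ (K : Type u) [Field K] [IsAlgClosed K] (t : Spec (CommRingCat.of K) ⟶ S),
      Red.IsReductiveOver K (Red.bc t G)) : Red.IsReductive (Red.bc f G) := by
  have h1 := smooth_bc f G
  have h2 := quasiCompact_bc f G
  have h3 := geometricallyIrreducible_bc f G
  have h4 := affFib_bc f G haff
  have h5 : IsAffine (Red.bc f G).left := isAffine_dvr (Red.bc f G) h4
  refine ⟨?_, h1, fun s => ?_⟩
  · have : IsAffine (Spec (CommRingCat.of O)) := inferInstance
    exact (inferInstance : IsAffineHom (Red.bc f G).hom)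
  · exact RedIso.isReductiveOver_of_iso (BcIso.bcCompIso (Red.geomPt s) f G) (hred _ (Red.geomPt s ≫ f))

lemma det_of_local' {U : Scheme.{u}} {G : Over U} [GrpObj G] (D : Red.SplitRed G) {M : Type} [AddCommGroup M]
    (φ : G ⟶ Red.DS U M) [IsMonHom φ] (V : CommRingCat.{u}) [IsLocalRing V]
    (z : Spec V ⟶ U) {k k' : Type u} [Field k] [Field k']
    (a : Spec (CommRingCat.of k) ⟶ Spec V) (a' : Spec (CommRingCat.of k') ⟶ Spec V)
    (hdet : Det φ k' (a' ≫ z)) : Det φ k (a ≫ z) :=
  DetSpec.det_of_local D φ (V := V) z a a' hdet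

lemma isAffineHom_diag (M : Type) [AddCommGroup M] : IsAffineHom (Red.diag (ULift.{u} ℤ) M).hom := by
  change IsAffineHom (Spec.map _)
  infer_instance

/-- geometric points factor through local schemes -/
lemma exists_stalk_lift {U : Scheme.{u}} {k : Type u} [Field k] (x : Spec (CommRingCat.of k) ⟶ U) (u : U)
    (h : x (IsLocalRing.closedPoint k) ⤳ u) :
    ∃ a : Spec (CommRingCat.of k) ⟶ Spec (U.presheaf.stalk u), a ≫ U.fromSpecStalk u = x := by
  refine ⟨Spec.map (Scheme.stalkClosedPointTo x) ≫ Spec.map (U.presheaf.stalkSpecializes h), ?_⟩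
  rw [Category.assoc, Scheme.SpecMap_stalkSpecializes_fromSpecStalk]
  exact Scheme.Spec_stalkClosedPointTo_fromSpecStalk x

/-- **Specialization of `Det`**: if `φ` detects central tori at a geometric point over `t` then it does so at some
geometric point over any specialization `s` of `t`. -/
theorem exists_det [IsLocallyNoetherian S] (G : Over S) [GrpObj G] [Smooth G.hom] [QuasiCompact G.hom]
    [GeometricallyIrreducible G.hom] (haff : AffFib G.hom)
    (hred : ∀ (K : Type u) [Field K] [IsAlgClosed K] (t : Spec (CommRingCat.of K) ⟶ S),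
      Red.IsReductiveOver K (Red.bc t G)) {M : Type} [AddCommGroup M] (φ : G ⟶ Red.DS S M) [IsMonHom φ]
    {L : Type u} [Field L] [IsAlgClosed L] (x : Spec (CommRingCat.of L) ⟶ S) (hdet : Det φ L x) (s : S)
    (hs : x (IsLocalRing.closedPoint L) ⤳ s) :
    ∃ (K : Type u) (_ : Field K) (_ : IsAlgClosed K) (t : Spec (CommRingCat.of K) ⟶ S),
      t (IsLocalRing.closedPoint K) = s ∧ Det φ K t := by
  by_cases hne : x (IsLocalRing.closedPoint L) = s
  · exact ⟨L, inferInstance, inferInstance, x, hne, hdet⟩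
  have hnoeth : IsNoetherianRing (S.presheaf.stalk s) := inferInstance
  obtain ⟨O, _, _, _, _, _, f, hf1, hf2⟩ := Groth.Agent.Ega43.DvrScheme.exists_dvr_of_specializes hs hne
    (S.residueField (x (IsLocalRing.closedPoint L))) (𝟙 _)
    (RingHom.FiniteType.essFiniteType (RingHom.FiniteType.id _))
  have hGred := isReductive_dvr f G haff hred
  obtain ⟨U, g, hg, ⟨u, hu⟩, ⟨D⟩⟩ := Groth.Agent.S2958.result (Red.bc f G) hGred (IsLocalRing.closedPoint O)
  -- the generic point of `O`
  let ξ : Spec (CommRingCat.of O) := Spec.map (CommRingCat.ofHom (algebraMap O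
    (S.residueField (x (IsLocalRing.closedPoint L))))) (IsLocalRing.closedPoint _)
  have hξ : f ξ = x (IsLocalRing.closedPoint L) := by
    have h1 := congr($hf2 (IsLocalRing.closedPoint _))
    rw [Spec.map_id, Scheme.Hom.comp_apply, Scheme.Hom.comp_apply] at h1
    exact h1.trans (Scheme.fromSpecResidueField_apply _ _)
  have hξs : ξ ⤳ g u := by
    have h1 : g u = IsLocalRing.closedPoint O := hu
    rw [h1]
    exact IsLocalRing.specializes_closedPoint ξ
  obtain ⟨u', hu', hgu'⟩ := Flat.generalizingMap g hξs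
  have hw0 : x (IsLocalRing.closedPoint L) = (g ≫ f) u' := by
    rw [Scheme.Hom.comp_apply, hgu', hξ]
  obtain ⟨w, hw1, hw2⟩ := Scheme.Pullback.exists_preimage_pullback (f := x) (g := g ≫ f)
    (IsLocalRing.closedPoint L) u' hw0
  let k' := AlgebraicClosure ((pullback x (g ≫ f)).residueField w)
  let y : Spec (CommRingCat.of k') ⟶ Spec (CommRingCat.of L) := Red.geomPt w ≫ pullback.fst x (g ≫ f)
  let x' : Spec (CommRingCat.of k') ⟶ U := Red.geomPt w ≫ pullback.snd x (g ≫ f)
  have hyx : y ≫ x = x' ≫ g ≫ f := by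
    simp only [y, x', Category.assoc, pullback.condition]
  have hx' : x' (IsLocalRing.closedPoint k') = u' := by
    rw [Scheme.Hom.comp_apply, RadOpen.geomPt_closedPoint, hw2]
  have hDa : IsAffineHom (Red.DS S M).hom := by
    have h1 : IsAffineHom (Red.diag (ULift.{u} ℤ) M).hom := isAffineHom_diag M
    exact MorphismProperty.pullback_snd (P := @IsAffineHom) _ _ h1
  have hd : Det φ k' (x' ≫ g ≫ f) := by
    rw [← hyx]
    exact det_extend φ x (hred L x) hdet y
  let φ₁ := (Over.pullback g).map ((Over.pullback f).map φ)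
  let e : Grp.mk (Red.bc g (Red.bc f (Red.DS S M))) ≅ Grp.mk (Red.DS U M) :=
    BcIso.bcMapIso g (TorusAlgClosed.dsBcIso f M) ≪≫ TorusAlgClosed.dsBcIso g M
  have hd₂ : Det (φ₁ ≫ e.hom.hom.hom) k' x' := by
    rw [det_comp_iso, det_bc_iff, det_bc_iff, Category.assoc]
    exact hd
  obtain ⟨a', ha'⟩ := exists_stalk_lift x' u (by rw [hx']; exact hu')
  obtain ⟨a, ha⟩ := exists_stalk_lift (Red.geomPt u) u (by rw [RadOpen.geomPt_closedPoint])
  refine ⟨AlgebraicClosure (U.residueField u), inferInstance, inferInstance, Red.geomPt u ≫ g ≫ f, ?_, ?_⟩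
  · rw [Scheme.Hom.comp_apply, Scheme.Hom.comp_apply, RadOpen.geomPt_closedPoint]
    have h1 : g u = IsLocalRing.closedPoint O := hu
    rw [h1, hf1]
  · have h1 := det_of_local' D (φ₁ ≫ e.hom.hom.hom) (U.presheaf.stalk u) (U.fromSpecStalk u) a a'
      (by
        change Det (φ₁ ≫ e.hom.hom.hom) k' (a' ≫ U.fromSpecStalk u)
        rw [ha']
        exact hd₂)
    have h2 : Det (φ₁ ≫ e.hom.hom.hom) (AlgebraicClosure (U.residueField u)) (Red.geomPt u) := by
      rw [← ha]
      exact h1
    rw [det_comp_iso, det_bc_iff, det_bc_iff, Category.assoc] at h2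
    exact h2

end Groth.Agent.Sga3.H805.DetAll
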