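import Groth.Agent.Books.CoeffMat
import Mathlib.RingTheory.HopfAlgebra.MonoidAlgebra
import Mathlib.RingTheory.Coalgebra.GroupLike
import Mathlib.RingTheory.Bialgebra.TensorProduct
import Mathlib.LinearAlgebra.Matrix.NonsingularInverse
import Mathlib.Algebra.Polynomial.AlgebraMap

/-!
# Determinant characters

A Hopf algebra `A` over a field with a central map `π : A → k[Γ]` (a central diagonalizable subgroup), not factoring
through the counit, `Γ` torsion free: there is a group-like element `d` of `A` with `π d ≠ 1` (the determinant of a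
weight space).
-/

set_option autoImplicit false

universe u

open TensorProduct HopfRep

namespace Groth.Agent.Sga3.H805.DetChar

open Groth.Agent.Books.ComodBasic Groth.Agent.Books.CoeffMat

section Poly

variable {k : Type*} [Field k] {ι : Type*} [Fintype ι] [DecidableEq ι]

/-- `det (1 + P (X - 1))` vanishes at `0` for a non-zero idempotent `P`. -/
theorem det_one_sub_eq_zero (P : Matrix ι ι k) (hP : P * P = P) (h0 : P ≠ 0) : (1 - P).det = 0 := by
  by_contra hne
  apply h0
  have hu : IsUnit (1 - P).det := isUnit_iff_ne_zero.mpr hne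
  have h1 : (1 - P) * P = 0 := by rw [sub_mul, one_mul, hP, sub_self]
  calc P = ((1 - P)⁻¹ * (1 - P)) * P := by rw [Matrix.nonsing_inv_mul _ hu, one_mul]
    _ = 0 := by rw [mul_assoc, h1, mul_zero]

variable {Γ : Type*} [CommGroup Γ]

theorem det_ne_one (P : Matrix ι ι k) (hP : P * P = P) (h0 : P ≠ 0) (γ : Γ)
    (hγ : Function.Injective fun n : ℕ => γ ^ n) :
    (1 + P.map (algebraMap k (MonoidAlgebra k Γ)) * (Matrix.scalar ι (MonoidAlgebra.single γ 1 - 1))).det ≠ 1 := by
  classical
  let F : Polynomial k := (1 + P.map (algebraMap k (Polynomial k)) * (Matrix.scalar ι (Polynomial.X - 1))).det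
  let φ : Polynomial k →ₐ[k] MonoidAlgebra k Γ := Polynomial.aeval (MonoidAlgebra.single γ 1)
  have hφ : Function.Injective φ := by
    rw [injective_iff_map_eq_zero]
    intro p hp
    ext n
    have h1 : φ p = p.sum fun i a => MonoidAlgebra.single (γ ^ i) a := by
      rw [show φ p = Polynomial.aeval (MonoidAlgebra.single γ 1) p from rfl, Polynomial.aeval_eq_sum_range',
        Polynomial.sum_over_range' _ _ _ (Nat.lt_succ_self _)]
      · refine Finset.sum_congr rfl fun i _ => ?_
        rw [MonoidAlgebra.single_pow, one_pow, MonoidAlgebra.smul_single, smul_eq_mul, mul_one]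
      · simp
      · exact Nat.lt_succ_self _
    rw [h1] at hp
    have h2 := congrArg (fun x => x.coeff (γ ^ n)) hp
    simp only [Polynomial.sum_def] at h2
    rw [Polynomial.coeff_zero]
    by_cases hn : n ∈ p.support
    · have h3 : (∑ i ∈ p.support, MonoidAlgebra.single (γ ^ i) (p.coeff i)).coeff (γ ^ n) = p.coeff n := by
        rw [MonoidAlgebra.coeff_sum, Finsupp.finsetSum_apply, Finset.sum_eq_single n]
        · simp
        · intro i _ hi
          rw [MonoidAlgebra.coeff_single, Finsupp.single_apply, if_neg]
          exact fun h => hi (hγ h)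
        · intro h
          exact absurd hn h
      rw [← h3, h2]
      simp
    · exact Polynomial.notMem_support_iff.mp hn
  have hF : φ F = (1 + P.map (algebraMap k (MonoidAlgebra k Γ)) *
      (Matrix.scalar ι (MonoidAlgebra.single γ 1 - 1))).det := by
    rw [AlgHom.map_det]
    congr 1
    have h1 : φ.mapMatrix (P.map (algebraMap k (Polynomial k))) = P.map (algebraMap k (MonoidAlgebra k Γ)) := by
      refine Matrix.ext fun i j => ?_
      exact φ.commutes _
    have h2 : φ.mapMatrix (Matrix.scalar ι (Polynomial.X - 1)) =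
        Matrix.scalar ι (MonoidAlgebra.single γ 1 - 1 : MonoidAlgebra k Γ) := by
      ext i j : 2
      by_cases hij : i = j
      · subst hij
        simp [φ]
      · simp [hij]
    rw [map_add, map_one, map_mul, h1, h2]
  intro h
  rw [← hF] at h
  have h1 : F = 1 := hφ (h.trans (map_one φ).symm)
  have h2 : Polynomial.eval 0 F = (1 - P).det := by
    change Polynomial.evalRingHom 0 F = _
    rw [RingHom.map_det]
    congr 1
    have h1 : (Polynomial.evalRingHom 0).mapMatrix (P.map (algebraMap k (Polynomial k))) = P := by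
      ext i j : 2
      simp
    have h2 : (Polynomial.evalRingHom (0 : k)).mapMatrix (Matrix.scalar ι (Polynomial.X - 1)) =
        (-1 : Matrix ι ι k) := by
      ext i j : 2
      by_cases hij : i = j
      · subst hij
        simp
      · simp [hij]
    rw [map_add, map_one, map_mul, h1, h2, mul_neg, mul_one, ← sub_eq_add_neg]
  rw [h1, det_one_sub_eq_zero P hP h0, Polynomial.eval_one] at h2
  exact one_ne_zero h2

end Poly

section Main

variable {k : Type*} [Field k] {Γ : Type*} [CommGroup Γ]

variable (k) in
/-- a coefficient of an element of the group algebra -/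
noncomputable def cf (γ : Γ) : MonoidAlgebra k Γ →ₗ[k] k where
  toFun x := x.coeff γ
  map_add' _ _ := by simp
  map_smul' _ _ := by simp

omit [CommGroup Γ] in
lemma cf_single [DecidableEq Γ] (γ δ : Γ) (r : k) :
    cf k γ (MonoidAlgebra.single δ r) = if δ = γ then r else 0 := by
  simp [cf, Finsupp.single_apply]

omit [CommGroup Γ] in
lemma cf_comul [DecidableEq Γ] (γ δ : Γ) (x : MonoidAlgebra k Γ) :
    TensorProduct.lid k k (TensorProduct.map (cf k γ) (cf k δ) (CoalgebraStruct.comul (R := k) x)) =
      if γ = δ then cf k γ x else 0 := by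
  induction x using MonoidAlgebra.induction_linear with
  | zero => simp
  | add f g hf hg =>
    rw [map_add, map_add, map_add, hf, hg, map_add]
    split_ifs <;> simp
  | single ε r =>
    rw [MonoidAlgebra.comul_single, CommSemiring.comul_apply, TensorProduct.map_tmul]
    simp only [TensorProduct.map_tmul, MonoidAlgebra.lsingle_apply, cf_single, TensorProduct.lid_tmul,
      smul_eq_mul]
    by_cases h : γ = δ
    · subst h
      by_cases h2 : ε = γ <;> simp [h2]
    · rw [if_neg h]
      by_cases h2 : ε = γ
      · have h3 : ε ≠ δ := fun h3 => h (h2.symm.trans h3)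
        simp [h3]
      · simp [h2]

omit [CommGroup Γ] in
lemma sum_cf (x : MonoidAlgebra k Γ) (s : Finset Γ) (hs : ∀ γ ∉ s, cf k γ x = 0) :
    x = ∑ γ ∈ s, MonoidAlgebra.single γ (cf k γ x) := by
  classical
  ext γ
  rw [MonoidAlgebra.coeff_sum, Finsupp.finsetSum_apply]
  simp only [MonoidAlgebra.coeff_single, Finsupp.single_apply]
  rw [Finset.sum_ite_eq']
  split_ifs with h
  · rfl
  · exact hs γ h

variable {ι : Type*} [Fintype ι] [DecidableEq ι]

omit [CommGroup Γ] in
/-- the coefficients of a multiplicative matrix over a group algebra are orthogonal idempotents -/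
theorem cf_mul_cf [DecidableEq Γ] (M : Matrix ι ι (MonoidAlgebra k Γ)) (hM : IsMult k M) (γ δ : Γ) :
    (M.map (cf k γ)) * (M.map (cf k δ)) = if γ = δ then M.map (cf k γ) else 0 := by
  ext i j
  have h1 := cf_comul γ δ (M i j)
  rw [hM.comul, map_sum, map_sum] at h1
  simp only [TensorProduct.map_tmul, TensorProduct.lid_tmul, smul_eq_mul] at h1
  rw [Matrix.mul_apply]
  simp only [Matrix.map_apply]
  rw [h1]
  split_ifs <;> rfl

variable {A : Type*} [CommRing A] [Bialgebra k A]

/-- **Determinant characters.** -/
theorem exists_groupLike_of_isMult (π : A →ₐc[k] MonoidAlgebra k Γ)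
    (hc : ∀ a : A, TensorProduct.comm k _ _ (TensorProduct.map LinearMap.id (π : A →ₗ[k] MonoidAlgebra k Γ)
      (CoalgebraStruct.comul (R := k) a)) =
      TensorProduct.map (π : A →ₗ[k] MonoidAlgebra k Γ) LinearMap.id (CoalgebraStruct.comul (R := k) a))
    (m : Matrix ι ι A) (hm : IsMult k m) (γ : Γ) (hγ : Function.Injective fun n : ℕ => γ ^ n)
    (h0 : (m.map π).map (cf k γ) ≠ 0) :
    ∃ d : A, IsGroupLikeElem k d ∧ π d ≠ 1 := by
  classical
  have hM : IsMult k (m.map π) :=
    { comul := fun i j => by
        rw [Matrix.map_apply]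
        have h1 := CoalgHomClass.map_comp_comul_apply (F := A →ₐc[k] MonoidAlgebra k Γ) π (m i j)
        rw [← h1, hm.comul, map_sum]
        rfl
      counit := fun i j => by
        rw [Matrix.map_apply, ← hm.counit i j]
        exact CoalgHomClass.counit_comp_apply π (m i j) }
  set P : Matrix ι ι k := (m.map π).map (cf k γ) with hPdef
  have hPP : P * P = P := by
    have := cf_mul_cf _ hM γ γ
    rwa [if_pos rfl] at this
  let Q : Matrix ι ι A := P.map (algebraMap k A)
  -- centrality
  have hcomm : m * Q = Q * m := by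
    ext i j
    have h1 := congrArg (fun z => TensorProduct.lid k A ((cf k γ).rTensor A z)) (hc (m i j))
    simp only [hm.comul, map_sum, TensorProduct.map_tmul, TensorProduct.comm_tmul, LinearMap.rTensor_tmul,
      TensorProduct.lid_tmul, LinearMap.id_coe, id_eq] at h1
    rw [Matrix.mul_apply, Matrix.mul_apply]
    refine Eq.trans ?_ (h1.trans ?_)
    · refine Finset.sum_congr rfl fun l _ => ?_
      rw [mul_comm]
      exact (Algebra.smul_def _ _).symm
    · refine Finset.sum_congr rfl fun l _ => ?_
      exact Algebra.smul_def _ _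
  have hQQ : Q * Q = Q := by
    have := congrArg (fun X : Matrix ι ι k => X.map (algebraMap k A)) hPP
    simp only [Matrix.map_mul] at this
    exact this
  refine ⟨(Q * m + (1 - Q)).det, ⟨?_, ?_⟩, ?_⟩
  · change Bialgebra.counitAlgHom k A _ = 1
    have h1 : (Bialgebra.counitAlgHom k A).mapMatrix m = 1 := by
      refine Matrix.ext fun i j => ?_
      rw [Matrix.one_apply]
      exact hm.counit i j
    have h2 : (Bialgebra.counitAlgHom k A).mapMatrix Q = P := by
      refine Matrix.ext fun i j => ?_
      exact (Bialgebra.counitAlgHom k A).commutes _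
    rw [AlgHom.map_det, map_add, map_sub, map_mul, map_one, h1, h2, mul_one, add_sub_cancel, Matrix.det_one]
  · change Bialgebra.comulAlgHom k A _ = _
    let iL : A →ₐ[k] A ⊗[k] A := Algebra.TensorProduct.includeLeft
    let iR : A →ₐ[k] A ⊗[k] A := Algebra.TensorProduct.includeRight
    have h1 : (Bialgebra.comulAlgHom k A).mapMatrix m = iL.mapMatrix m * iR.mapMatrix m := by
      refine Matrix.ext fun i j => ?_
      rw [Matrix.mul_apply]
      refine (hm.comul i j).trans (Finset.sum_congr rfl fun l _ => ?_)
      simp [iL, iR]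
    have h2 : (Bialgebra.comulAlgHom k A).mapMatrix Q = iL.mapMatrix Q := by
      refine Matrix.ext fun i j => ?_
      exact ((Bialgebra.comulAlgHom k A).commutes (P i j)).trans (iL.commutes (P i j)).symm
    have h3 : iR.mapMatrix Q = iL.mapMatrix Q := by
      refine Matrix.ext fun i j => ?_
      exact (iR.commutes (P i j)).trans (iL.commutes (P i j)).symm
    have h4 : iL.mapMatrix m * iL.mapMatrix Q = iL.mapMatrix Q * iL.mapMatrix m := by
      rw [← map_mul, hcomm, map_mul]
    have h5 : iL.mapMatrix Q * iL.mapMatrix Q = iL.mapMatrix Q := by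
      rw [← map_mul, hQQ]
    have h6 : (Q * m + (1 - Q)).det ⊗ₜ[k] (Q * m + (1 - Q)).det =
        iL (Q * m + (1 - Q)).det * iR (Q * m + (1 - Q)).det := by
      simp [iL, iR]
    rw [h6, AlgHom.map_det, AlgHom.map_det, AlgHom.map_det, ← Matrix.det_mul]
    congr 1
    rw [map_add, map_sub, map_mul, map_one, map_add, map_sub, map_mul, map_one, map_add, map_sub, map_mul,
      map_one, h1, h2, h3]
    generalize iL.mapMatrix Q = q at *
    generalize iL.mapMatrix m = x at *
    generalize iR.mapMatrix m = y at *
    have e1 : q * x * (q * y) = q * (x * y) := by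
      rw [← mul_assoc, mul_assoc q x q, h4, ← mul_assoc q q x, h5, mul_assoc]
    have e2 : q * x * (1 - q) = 0 := by
      rw [mul_sub, mul_one, mul_assoc, h4, ← mul_assoc, h5, sub_self]
    have e3 : (1 - q) * (q * y) = 0 := by
      rw [← mul_assoc, sub_mul, one_mul, h5, sub_self, zero_mul]
    have e4 : (1 - q) * (1 - q) = 1 - q := by
      rw [mul_sub, mul_one, sub_mul, one_mul, h5, sub_self, sub_zero]
    rw [add_mul, mul_add, mul_add, e1, e2, e3, e4]
    abel
  · change (π : A →ₐ[k] MonoidAlgebra k Γ) _ ≠ 1
    have h1 := det_ne_one P hPP h0 γ hγ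
    have h2 : (π : A →ₐ[k] MonoidAlgebra k Γ).mapMatrix Q = P.map (algebraMap k (MonoidAlgebra k Γ)) := by
      refine Matrix.ext fun i j => ?_
      exact (π : A →ₐ[k] MonoidAlgebra k Γ).commutes _
    have h3 : P.map (algebraMap k (MonoidAlgebra k Γ)) * (π : A →ₐ[k] MonoidAlgebra k Γ).mapMatrix m =
        P.map (algebraMap k (MonoidAlgebra k Γ)) * Matrix.scalar ι (MonoidAlgebra.single γ 1) := by
      refine Matrix.ext fun i j => ?_
      ext δ
      have h4 := congrFun (congrFun (cf_mul_cf _ hM γ δ) i) j
      rw [Matrix.mul_apply] at h4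
      rw [Matrix.mul_apply, Matrix.scalar_apply, Matrix.mul_diagonal, MonoidAlgebra.coeff_sum,
        Finsupp.finsetSum_apply]
      have h5 : ∀ l, (P.map (algebraMap k (MonoidAlgebra k Γ)) i l *
          (π : A →ₐ[k] MonoidAlgebra k Γ).mapMatrix m l j).coeff δ =
          (m.map π).map (cf k γ) i l * (m.map π).map (cf k δ) l j := by
        intro l
        change (algebraMap k (MonoidAlgebra k Γ) (P i l) * _).coeff δ = _
        rw [← Algebra.smul_def]
        rfl
      rw [Finset.sum_congr rfl fun l _ => h5 l, h4]
      change _ = (algebraMap k (MonoidAlgebra k Γ) (P i j) * _).coeff δ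
      rw [← Algebra.smul_def, MonoidAlgebra.smul_single, smul_eq_mul, mul_one, MonoidAlgebra.coeff_single,
        Finsupp.single_apply]
      split_ifs <;> rfl
    rw [AlgHom.map_det, map_add, map_sub, map_mul, map_one, h2, h3]
    convert h1 using 2
    rw [map_sub, map_one, mul_sub, mul_one]
    abel

/-- **Determinant characters.** `A` a Hopf algebra over a field, `π : A → k[Γ]` cocentral and not factoring through
the counit, `Γ` torsion free. -/
theorem exists_groupLike (π : A →ₐc[k] MonoidAlgebra k Γ)
    (hc : ∀ a : A, TensorProduct.comm k _ _ (TensorProduct.map LinearMap.id (π : A →ₗ[k] MonoidAlgebra k Γ)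
      (CoalgebraStruct.comul (R := k) a)) =
      TensorProduct.map (π : A →ₗ[k] MonoidAlgebra k Γ) LinearMap.id (CoalgebraStruct.comul (R := k) a))
    (hΓ : ∀ γ : Γ, γ ≠ 1 → Function.Injective fun n : ℕ => γ ^ n)
    (a : A) (ha : π a ≠ algebraMap k _ (CoalgebraStruct.counit (R := k) a)) :
    ∃ d : A, IsGroupLikeElem k d ∧ π d ≠ 1 := by
  classical
  obtain ⟨n, v, m, -, hav, hm, hv⟩ := exists_isMult_of_finite (k := k) (A := A) (V := A) {a} (Set.finite_singleton a)
  by_cases h : ∀ γ : Γ, γ ≠ 1 → (m.map π).map (cf k γ) = 0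
  · exfalso
    apply ha
    have h1 : ∀ i j, π (m i j) = algebraMap k _ (CoalgebraStruct.counit (R := k) (m i j)) := by
      intro i j
      have h2 : π (m i j) = algebraMap k _ (cf k 1 (π (m i j))) := by
        have h3 := sum_cf (π (m i j)) {1} (fun γ hγ => by
          have := congrFun (congrFun (h γ (by simpa using hγ)) i) j
          exact this)
        rw [Finset.sum_singleton] at h3
        rw [h3, cf_single, if_pos rfl]
        rfl
      have h4 : CoalgebraStruct.counit (R := k) (m i j) = cf k 1 (π (m i j)) := by
        rw [← CoalgHomClass.counit_comp_apply (F := A →ₐc[k] MonoidAlgebra k Γ) π (m i j), h2]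
        rw [Bialgebra.counit_algebraMap, ← h2]
      rw [h4]
      exact h2
    have h2 : ∀ j, π (v j) = algebraMap k _ (CoalgebraStruct.counit (R := k) (v j)) := by
      intro j
      have h3 : v j = ∑ i, CoalgebraStruct.counit (R := k) (v i) • m i j := by
        have h4 := Coalgebra.rTensor_counit_comul (R := k) (v j)
        have h5 : CoalgebraStruct.comul (R := k) (v j) = ∑ i, v i ⊗ₜ[k] m i j := hv j
        rw [h5, map_sum] at h4
        have h6 := congrArg (TensorProduct.lid k A) h4
        rw [map_sum, TensorProduct.lid_tmul, one_smul] at h6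
        rw [← h6]
        simp
      rw [h3, map_sum, map_sum, map_sum]
      refine Finset.sum_congr rfl fun i _ => ?_
      rw [map_smul, map_smul, h1, Algebra.smul_def, ← map_mul]
      rfl
    have h3 : a ∈ Submodule.span k (Set.range v) := hav rfl
    clear ha hav
    induction h3 using Submodule.span_induction with
    | mem x hx =>
      obtain ⟨j, rfl⟩ := hx
      exact h2 j
    | zero => simp
    | add x y _ _ hx hy => rw [map_add, map_add, map_add, hx, hy]
    | smul c x _ hx => rw [map_smul, map_smul, hx, Algebra.smul_def, ← map_mul]; rfl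
  · push Not at h
    obtain ⟨γ, hγ, h0⟩ := h
    exact exists_groupLike_of_isMult π hc m hm γ (hΓ γ hγ) h0

end Main

end Groth.Agent.Sga3.H805.DetChar
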