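import Groth.Agent.Sga3.H805.Det
import Groth.Agent.Sga3B.DSRigid
import Groth.Agent.S2962

/-!
# Specialization of `Det` in a split reductive group

`G` split reductive over `U`, `φ : G ⟶ D_U(M)`, `z : Spec V ⟶ U` with `V` local: if `φ` detects central tori at one
geometric point of `Spec V` then at all of them.
-/

set_option autoImplicit false

universe u

open CategoryTheory MonoidalCategory CartesianMonoidalCategory MonObj GrpObj AlgebraicGeometry Limits

namespace Groth.Agent.Sga3.H805.DetSpec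

open Groth.Agent.Sga3B BcPts CharK Det InfConj InfConjFam DSRigid
open DSPts hiding bcEquiv bcEquiv_comp

variable {U : Scheme.{u}}

lemma dsChar_DSmap' {S : Scheme.{u}} {M N : Type} [AddCommGroup M] [AddCommGroup N] (ν : M →+ N) :
    dsChar (Red.DSmap S ν) = (dsChar (𝟙 (Red.DS S N))).comp (AddMonoidHom.toMultiplicative ν) := by
  rw [← dsChar_DSmap, Category.id_comp]

lemma DSmap_comp {S : Scheme.{u}} {M N L : Type} [AddCommGroup M] [AddCommGroup N] [AddCommGroup L]
    (ψ : N →+ L) (χ : M →+ N) : Red.DSmap S ψ ≫ Red.DSmap S χ = Red.DSmap S (ψ.comp χ) := by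
  apply (dsEquiv _ M).symm.injective
  change dsChar _ = dsChar _
  rw [dsChar_DSmap, dsChar_DSmap', dsChar_DSmap']
  rfl

lemma DSmap_zero {S : Scheme.{u}} {M N : Type} [AddCommGroup M] [AddCommGroup N] :
    Red.DSmap S (0 : M →+ N) = 1 := by
  apply (dsEquiv _ M).symm.injective
  change dsChar _ = dsChar _
  have h1 : dsChar (Red.DSmap S (0 : M →+ N)) = (dsChar (𝟙 (Red.DS S N))).comp (AddMonoidHom.toMultiplicative 0) := by
    rw [← dsChar_DSmap, Category.id_comp]
  rw [h1]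
  have h2 : dsChar (1 : Red.DS S N ⟶ Red.DS S M) = 1 := map_one (dsEquiv (Red.DS S N) M).symm
  rw [h2]
  refine MonoidHom.ext fun m => ?_
  change dsChar (𝟙 (Red.DS S N)) 1 = 1
  rw [map_one]

lemma tr_injective {S S' : Scheme.{u}} (x : S' ⟶ S) {N : Type} [AddCommGroup N] {T : Over S'} {q q' : T ⟶ Red.DS S' N}
    (h : tr x q = tr x q') : q = q' := by
  apply (dsEquiv T N).symm.injective
  change dsChar q = dsChar q'
  rw [← dsChar_tr x q, ← dsChar_tr x q', h]

lemma tr_one {S S' : Scheme.{u}} (x : S' ⟶ S) {N : Type} [AddCommGroup N] {T : Over S'} :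
    tr x (1 : T ⟶ Red.DS S' N) = 1 := by
  have h2 : dsChar (1 : T ⟶ Red.DS S' N) = 1 := map_one (dsEquiv T N).symm
  unfold tr
  rw [h2]
  exact map_one (dsEquiv ((Over.map x).obj T) N)

/-- a homomorphism of character groups is determined at any point -/
lemma eq_zero_of_tr {k : Type u} [Field k] (x : Spec (CommRingCat.of k) ⟶ U) {M N : Type} [AddCommGroup M]
    [AddCommGroup N] (ν : M →+ N) (h : tr x (𝟙 (Red.DS (Spec (CommRingCat.of k)) N)) ≫ Red.DSmap U ν = 1) : ν = 0 := by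
  rw [← tr_DSmap, Category.id_comp] at h
  have h1 : Red.DSmap (Spec (CommRingCat.of k)) ν = 1 := tr_injective x (h.trans (tr_one x).symm)
  have h2 : univPt k N ≫ Red.DSmap (Spec (CommRingCat.of k)) ν = univPt k N ≫ 1 := by rw [h1]
  have h3 : univPt k N ≫ Red.DSmap (Spec (CommRingCat.of k)) ν =
      charPt (C := k) ((MonoidAlgebra.of k (Multiplicative N)).comp (AddMonoidHom.toMultiplicative ν)) := by
    rw [univPt, charPt, dsEquiv_DSmap]
    rfl
  have h4 : (1 : pt k (MonoidAlgebra k (Multiplicative N)) ⟶ Red.DS (Spec (CommRingCat.of k)) M) = charPt (C := k) 1 := by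
    unfold charPt
    rw [MonoidHom.comp_one]
    exact (map_one (dsEquiv (pt k (MonoidAlgebra k (Multiplicative N))) M)).symm
  rw [h3, MonObj.comp_one, h4] at h2
  have h6 := charPt_injective h2
  ext m
  have h7 := congr($h6 (Multiplicative.ofAdd m))
  have h8 : Function.Injective (MonoidAlgebra.of k (Multiplicative N)) := MonoidAlgebra.of_injective
  have h9 : MonoidAlgebra.of k (Multiplicative N) (Multiplicative.ofAdd (ν m)) = MonoidAlgebra.of k (Multiplicative N) 1 := by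
    rw [map_one]
    exact h7
  exact h8 h9

/-- the two ways to see the projection to the base -/
lemma tr_left_hom {S S' : Scheme.{u}} (x : S' ⟶ S) {N : Type} [AddCommGroup N] {T : Over S'} (q : T ⟶ Red.DS S' N) :
    (tr x q).left ≫ (Red.DS S N).hom = T.hom ≫ x := Over.w (tr x q)

/-- **Specialization of `Det` over a local base.** -/
theorem det_of_local {G : Over U} [GrpObj G] (D : Red.SplitRed G) {M : Type} [AddCommGroup M]
    (φ : G ⟶ Red.DS U M) [IsMonHom φ] {V : Type u} [CommRing V] [IsLocalRing V]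
    (z : Spec (CommRingCat.of V) ⟶ U) {k k' : Type u} [Field k] [Field k']
    (a : Spec (CommRingCat.of k) ⟶ Spec (CommRingCat.of V)) (a' : Spec (CommRingCat.of k') ⟶ Spec (CommRingCat.of V))
    (hdet : Det φ k' (a' ≫ z)) : Det φ k (a ≫ z) := by
  intro r i _ hi hφ
  let N := Fin r → ℤ
  let x := a ≫ z
  let x' := a' ≫ z
  obtain ⟨hDi, hDm, -⟩ := D.maximalTorus
  let g : (Over.map x).obj (Red.DS (Spec (CommRingCat.of k)) N) ⟶ G := (bcEquiv x _ G).symm i
  have hgi : bcEquiv x _ G g = i := Equiv.apply_symm_apply _ _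
  have hg : IsCen g := by
    rw [← isCen_bcEquiv_iff x, hgi]
    exact hi
  obtain ⟨t, ht, hroots⟩ := (Groth.Agent.S2962.result D _ g).mp hg
  let sp : D.T ⟶ Red.DS U D.M := D.split.hom.hom.hom
  let sp' : Red.DS U D.M ⟶ D.T := D.split.inv.hom.hom
  have hsp : sp ≫ sp' = 𝟙 _ := congrArg (fun f => f.hom.hom) D.split.hom_inv_id
  have hsp' : sp' ≫ sp = 𝟙 _ := congrArg (fun f => f.hom.hom) D.split.inv_hom_id
  have hspm : ∀ {X : Over U} (u v : X ⟶ D.T), (u * v) ≫ sp = (u ≫ sp) * (v ≫ sp) :=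
    fun u v => MonObj.mul_comp u v D.split.hom.hom.hom
  have hsp1 : ∀ {X : Over U}, (1 : X ⟶ D.T) ≫ sp = 1 := MonObj.one_comp D.split.hom.hom.hom
  have hsp1' : ∀ {X : Over U}, (1 : X ⟶ Red.DS U D.M) ≫ sp' = 1 := MonObj.one_comp D.split.inv.hom.hom
  let q := t ≫ sp
  -- multiplicativity
  have hmulg : ∀ (Y : Over (Spec (CommRingCat.of k))) (y₁ y₂ : Y ⟶ Red.DS (Spec (CommRingCat.of k)) N),
      (Over.map x).map (y₁ * y₂) ≫ g = ((Over.map x).map y₁ ≫ g) * ((Over.map x).map y₂ ≫ g) := by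
    intro Y y₁ y₂
    have h1 : ∀ y : Y ⟶ Red.DS (Spec (CommRingCat.of k)) N, (Over.map x).map y ≫ g = (bcMulEquiv x Y G).symm (y ≫ i) :=
      fun y => (comp_bcEquiv_symm x y i).symm
    rw [h1, h1, h1, ← map_mul, MonObj.mul_comp]
  have hmulq : ∀ (Y : Over (Spec (CommRingCat.of k))) (y₁ y₂ : Y ⟶ Red.DS (Spec (CommRingCat.of k)) N),
      (Over.map x).map (y₁ * y₂) ≫ q = ((Over.map x).map y₁ ≫ q) * ((Over.map x).map y₂ ≫ q) := by
    intro Y y₁ y₂
    have h1 : (Over.map x).map (y₁ * y₂) ≫ t = ((Over.map x).map y₁ ≫ t) * ((Over.map x).map y₂ ≫ t) := by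
      rw [← cancel_mono D.i, MonObj.mul_comp, Category.assoc, Category.assoc, Category.assoc, ht, hmulg]
    change (Over.map x).map (y₁ * y₂) ≫ t ≫ sp = ((Over.map x).map y₁ ≫ t ≫ sp) * ((Over.map x).map y₂ ≫ t ≫ sp)
    rw [← Category.assoc, h1, hspm, Category.assoc, Category.assoc]
  let f : Red.DS (Spec (CommRingCat.of k)) N ⟶ Red.DS (Spec (CommRingCat.of k)) D.M := untr x q
  have hf : IsMonHom f := Pts.isMonHom_of_points _ fun Y y₁ y₂ => by
    rw [← untr_comp, ← untr_comp, ← untr_comp, hmulq, untr_mul]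
  obtain ⟨ψ, hψ⟩ := exists_eq_DSmap f
  let q₀ : (Over.map x).obj (Red.DS (Spec (CommRingCat.of k)) N) ⟶ Red.DS U N := tr x (𝟙 _)
  have hq : q = q₀ ≫ Red.DSmap U ψ := by
    rw [← tr_untr x q]
    change tr x f = _
    rw [hψ, ← tr_DSmap, Category.id_comp]
  -- the roots
  have hψr : ∀ b : D.idx, ψ (D.P.root b) = 0 := by
    intro b
    have h1 := hroots b
    have h2 : q₀ ≫ Red.DSmap U (ψ.comp (zmultiplesHom D.M (D.P.root b))) = 1 := by
      have h3 : Red.DSmap U ψ ≫ Red.DSmap U (zmultiplesHom D.M (D.P.root b) : ℤ →+ D.M) =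
          Red.DSmap U (ψ.comp (zmultiplesHom D.M (D.P.root b))) := DSmap_comp _ _
      rw [← h3, ← Category.assoc, ← hq]
      change (t ≫ sp) ≫ Red.chi U (D.P.root b) = 1
      rw [Category.assoc]
      exact h1
    have h4 := eq_zero_of_tr x _ h2
    have h5 := DFunLike.congr_fun h4 1
    simpa using h5
  -- the torus over `U`
  let l : Red.DS U N ⟶ G := Red.DSmap U ψ ≫ sp' ≫ D.i
  have hψm : IsMonHom (Red.DSmap U ψ) := CharK.isMonHom_DSmap ψ
  have hl : IsMonHom l := inferInstanceAs (IsMonHom (Red.DSmap U ψ ≫ D.split.inv.hom.hom ≫ D.i))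
  have hlc : IsCen l := by
    refine (Groth.Agent.S2962.result D _ l).mpr ⟨Red.DSmap U ψ ≫ sp', Category.assoc _ _ _, fun b => ?_⟩
    change (Red.DSmap U ψ ≫ sp') ≫ sp ≫ Red.chi U (D.P.root b) = 1
    rw [Category.assoc, ← Category.assoc sp', hsp', Category.id_comp]
    change Red.DSmap U ψ ≫ Red.DSmap U (zmultiplesHom D.M (D.P.root b) : ℤ →+ D.M) = 1
    rw [DSmap_comp]
    have h1 : ψ.comp (zmultiplesHom D.M (D.P.root b)) = 0 := by
      ext
      simp [hψr b]
    rw [h1, DSmap_zero]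
  have hql : q₀ ≫ l = g := by
    change q₀ ≫ Red.DSmap U ψ ≫ sp' ≫ D.i = g
    rw [← Category.assoc, ← hq]
    change (t ≫ sp) ≫ sp' ≫ D.i = g
    rw [Category.assoc, ← Category.assoc sp, hsp, Category.id_comp, ht]
  -- the composite with `φ`
  let m : Red.DS U N ⟶ Red.DS U M := l ≫ φ
  have hm : IsMonHom m := inferInstanceAs (IsMonHom (l ≫ φ))
  obtain ⟨ν, hν⟩ := exists_DSmap_family z (fst (Red.DS U N) (Over.mk z) ≫ m) (by
    intro X g₁ g₂ t
    simp only [lift_fst_assoc]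
    exact MonObj.mul_comp _ _ _)
  have hν' : ∀ (T : Over U) (q : T ⟶ Red.DS U N) (t : T ⟶ Over.mk z), q ≫ m = q ≫ Red.DSmap U ν := by
    intro T q t
    rw [← hν T q t, lift_fst_assoc]
  have hgφ : g ≫ φ = 1 := by
    rw [← BcPts.bcEquiv_symm_comp, hφ]
    exact (bcMulEquiv x _ _).symm.map_one
  have hν0 : ν = 0 := by
    apply eq_zero_of_tr x
    rw [← hν' _ q₀ (Over.homMk ((Red.DS (Spec (CommRingCat.of k)) N).hom ≫ a) (by simp [x]))]
    change q₀ ≫ l ≫ φ = 1
    rw [← Category.assoc, hql, hgφ]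
  -- at the other point
  let q' : (Over.map x').obj (Red.DS (Spec (CommRingCat.of k')) N) ⟶ Red.DS U N := tr x' (𝟙 _)
  let i' : Red.DS (Spec (CommRingCat.of k')) N ⟶ Red.bc x' G := bcEquiv x' _ G (q' ≫ l)
  have hi'm : IsMonHom i' := Pts.isMonHom_of_points _ fun Y y₁ y₂ => by
    have h1 : ∀ y : Y ⟶ Red.DS (Spec (CommRingCat.of k')) N, y ≫ i' = bcEquiv x' Y G (tr x' y ≫ l) := by
      intro y
      change y ≫ bcEquiv x' _ G (q' ≫ l) = _
      rw [← comp_bcEquiv, ← Category.assoc, ← tr_comp, Category.comp_id]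
    rw [h1, h1, h1, tr_mul, MonObj.mul_comp, bcEquiv_mul]
  have hi'c : IsCen i' := by
    rw [isCen_bcEquiv_iff]
    intro X p y
    have := hlc X (p ≫ q') y
    simpa only [Category.assoc] using this
  have hi'1 : i' = 1 := by
    refine hdet r i' hi'c ?_
    rw [← BcPts.bcEquiv_comp, Category.assoc]
    change bcEquiv x' _ _ (q' ≫ m) = 1
    rw [hν' _ q' (Over.homMk ((Red.DS (Spec (CommRingCat.of k')) N).hom ≫ a') (by simp [x'])), hν0, DSmap_zero,
      MonObj.comp_one, bcEquiv_one]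
  have hψ0 : ψ = 0 := by
    apply eq_zero_of_tr x'
    change q' ≫ Red.DSmap U ψ = 1
    have h1 : q' ≫ l = 1 := by
      apply (bcEquiv x' _ G).injective
      rw [bcEquiv_one]
      exact hi'1
    have h2 : (q' ≫ Red.DSmap U ψ ≫ sp') ≫ D.i = 1 := by
      simp only [Category.assoc]
      exact h1
    have h3 : q' ≫ Red.DSmap U ψ ≫ sp' = 1 := by
      rw [← cancel_mono D.i, h2]
      exact (MonObj.one_comp D.i).symm
    have h4 := congrArg (fun w => w ≫ sp) h3
    simp only [Category.assoc, hsp', Category.comp_id] at h4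
    rw [h4]
    exact hsp1
  have hg1 : g = 1 := by
    rw [← hql]
    change q₀ ≫ Red.DSmap U ψ ≫ sp' ≫ D.i = 1
    rw [hψ0, DSmap_zero]
    have h1 : (1 : Red.DS U N ⟶ Red.DS U D.M) ≫ sp' ≫ D.i = 1 := by
      rw [← Category.assoc, hsp1']
      exact MonObj.one_comp D.i
    rw [h1, MonObj.comp_one]
  rw [← hgi, hg1, bcEquiv_one]

end Groth.Agent.Sga3.H805.DetSpec
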