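import Groth.Agent.Ega4B.NormalAssoc
import Mathlib.RingTheory.Flat.EquationalCriterion
import Mathlib.RingTheory.Ideal.AssociatedPrime.Finiteness
import Mathlib.RingTheory.DiscreteValuationRing.TFAE
import Mathlib.RingTheory.LocalRing.ResidueField.Basic
import Mathlib.LinearAlgebra.TensorProduct.Basic
import Mathlib.LinearAlgebra.Dual.Lemmas

/-!
# Divisibility in flat algebras over a normal noetherian domain

`exists_eq_smul`: `R` a noetherian integrally closed domain, `M` a flat `R`-module, `x ∈ M`, `a ∈ R` non-zero. If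
`x / a ∈ M_p` for all primes `p` such that `R_p` is a discrete valuation ring then `x / a ∈ M`.

`exists_eq_smul_of_tmul`: over a ring `R` with an element `π` generating a maximal ideal, if `x ⊗ x ∈ π (M ⊗ M)` then
`x ∈ π M`.
-/

set_option autoImplicit false

universe u v

open scoped TensorProduct

namespace Groth.Agent.Sga3.H805.FlatHartogs

/-- The local ring at an associated prime of a non-zero principal ideal of a normal noetherian domain is a discrete
valuation ring. -/
theorem isDiscreteValuationRing_of_mem_associatedPrimes {R : Type u} [CommRing R] [IsDomain R]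
    [IsNoetherianRing R] [IsIntegrallyClosed R] {a : R} (ha : a ≠ 0) {q : Ideal R} [q.IsPrime]
    (hq : q ∈ associatedPrimes R (R ⧸ Ideal.span {a})) :
    IsDiscreteValuationRing (Localization.AtPrime q) := by
  obtain ⟨π, hπ, hmax⟩ := Ega4B.NormalAssoc.exists_generator_of_mem_associatedPrimes ha hq
  have hnf : ¬ IsField (Localization.AtPrime q) := by
    rw [IsLocalRing.isField_iff_maximalIdeal_eq, hmax, Ideal.span_singleton_eq_bot]
    exact nonZeroDivisors.ne_zero hπ
  refine ((IsDiscreteValuationRing.TFAE (Localization.AtPrime q) hnf).out 0 4).mpr ?_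
  exact ⟨⟨π, hmax⟩⟩

/-- Elements regular modulo `a` stay regular modulo `a` on flat modules. -/
theorem exists_eq_smul_of_regular {R : Type u} [CommRing R] {M : Type v} [AddCommGroup M] [Module R M]
    [Module.Flat R M] (a s : R) (hs : ∀ r : R, s * r ∈ Ideal.span {a} → r ∈ Ideal.span {a}) (x y : M)
    (h : s • x = a • y) : ∃ z : M, x = a • z := by
  have h0 : ∑ i : Fin 2, (![s, -a] i) • (![x, y] i) = 0 := by
    simp [Fin.sum_univ_two, h]
  obtain ⟨κ, c, z, h1, h2⟩ := Module.Flat.isTrivialRelation_of_sum_smul_eq_zero h0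
  have hx : x = ∑ j, c 0 j • z j := h1 0
  have hc : ∀ j, ∃ e, c 0 j = a * e := by
    intro j
    have h3 := h2 j
    rw [Fin.sum_univ_two] at h3
    have h4 : s * c 0 j = a * c 1 j := by
      simp only [Matrix.cons_val_zero, Matrix.cons_val_one] at h3
      linear_combination h3
    have h5 := hs (c 0 j) (by rw [h4]; exact Ideal.mul_mem_right _ _ (Ideal.mem_span_singleton_self a))
    obtain ⟨e, he⟩ := Ideal.mem_span_singleton'.mp h5
    exact ⟨e, by rw [← he, mul_comm]⟩
  choose e he using hc
  refine ⟨∑ j, e j • z j, ?_⟩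
  rw [hx, Finset.smul_sum]
  refine Finset.sum_congr rfl fun j _ => ?_
  rw [he, mul_smul]

/-- **Hartogs for flat modules** over a noetherian normal domain. -/
theorem exists_eq_smul {R : Type u} [CommRing R] [IsDomain R] [IsNoetherianRing R] [IsIntegrallyClosed R]
    {M : Type v} [AddCommGroup M] [Module R M] [Module.Flat R M] (x : M) {a : R} (ha : a ≠ 0)
    (h : ∀ (p : Ideal R) [p.IsPrime], IsDiscreteValuationRing (Localization.AtPrime p) →
      ∃ s : R, s ∉ p ∧ ∃ y : M, s • x = a • y) : ∃ y : M, x = a • y := by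
  classical
  -- the ideal of denominators
  let D : Ideal R :=
    { carrier := {s | ∃ y : M, s • x = a • y}
      add_mem' := by
        rintro s t ⟨y, hy⟩ ⟨z, hz⟩
        exact ⟨y + z, by rw [add_smul, hy, hz, smul_add]⟩
      zero_mem' := ⟨0, by rw [zero_smul, smul_zero]⟩
      smul_mem' := by
        rintro r s ⟨y, hy⟩
        exact ⟨r • y, by rw [smul_eq_mul, mul_smul, hy, smul_comm]⟩ }
  have hfin : (associatedPrimes R (R ⧸ Ideal.span {a})).Finite := associatedPrimes.finite R _
  have hD : ¬ ((D : Set R) ⊆ ⋃ p ∈ associatedPrimes R (R ⧸ Ideal.span {a}), (p : Set R)) := by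
    intro hsub
    have h2 : ∃ p ∈ hfin.toFinset, D ≤ p := by
      refine (Ideal.subset_union_prime (s := hfin.toFinset) (f := id) ⊥ ⊥ ?_).mp ?_
      · intro p hp _ _
        exact ((Set.Finite.mem_toFinset hfin).mp hp).isPrime
      · simpa using hsub
    obtain ⟨p, hp, hDp⟩ := h2
    have hp' := (Set.Finite.mem_toFinset hfin).mp hp
    have := hp'.isPrime
    obtain ⟨s, hs, hsD⟩ := h p (isDiscreteValuationRing_of_mem_associatedPrimes ha hp')
    exact hs (hDp hsD)
  obtain ⟨s, hs, hs'⟩ := Set.not_subset.mp hD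
  rw [biUnion_associatedPrimes_eq_zero_divisors] at hs'
  obtain ⟨y, hy⟩ := hs
  refine exists_eq_smul_of_regular a s (fun r hr => ?_) x y hy
  by_contra hr'
  apply hs'
  refine ⟨Ideal.Quotient.mk _ r, ?_, ?_⟩
  · rwa [Ne, Ideal.Quotient.eq_zero_iff_mem]
  · rw [← Ideal.Quotient.mk_eq_mk, ← Submodule.Quotient.mk_smul, Ideal.Quotient.mk_eq_mk,
      Ideal.Quotient.eq_zero_iff_mem]
    exact hr

/-- If `x ⊗ x` is divisible by a generator `π` of a maximal ideal then so is `x`. -/
theorem exists_eq_smul_of_tmul {R : Type u} [CommRing R] (π : R) (hπ : (Ideal.span {π}).IsMaximal)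
    {M : Type v} [AddCommGroup M] [Module R M] (x : M) (z : M ⊗[R] M)
    (h : x ⊗ₜ[R] x = π • z) : ∃ y : M, x = π • y := by
  by_contra hx
  let I : Ideal R := Ideal.span {π}
  let k := R ⧸ I
  let _ : Field k := Ideal.Quotient.field I
  let N := M ⧸ (I • (⊤ : Submodule R M))
  let mk : M →ₗ[R] N := Submodule.mkQ _
  have hne : mk x ≠ 0 := by
    intro h0
    have h1 : x ∈ I • (⊤ : Submodule R M) := (Submodule.Quotient.mk_eq_zero _).mp h0
    rw [Submodule.ideal_span_singleton_smul, Submodule.mem_smul_pointwise_iff_exists] at h1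
    obtain ⟨y, -, hy⟩ := h1
    exact hx ⟨y, hy.symm⟩
  have hex : ∃ f : Module.Dual k N, f (mk x) ≠ 0 := by
    by_contra hcon
    push Not at hcon
    exact hne ((Module.forall_dual_apply_eq_zero_iff k (mk x)).mp hcon)
  obtain ⟨f, hf⟩ := hex
  let g : M →ₗ[R] k := (f.restrictScalars R).comp mk
  have hg : g x ≠ 0 := hf
  let F : M ⊗[R] M →ₗ[R] k := (LinearMap.mul' R k).comp (TensorProduct.map g g)
  have h2 : F (x ⊗ₜ[R] x) = g x * g x := by simp [F]
  have h3 : F (π • z) = 0 := by
    rw [map_smul, Algebra.smul_def]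
    have : algebraMap R k π = 0 := Ideal.Quotient.eq_zero_iff_mem.mpr (Ideal.mem_span_singleton_self π)
    rw [this, zero_mul]
  rw [← h, h2] at h3
  exact hg (mul_self_eq_zero.mp h3)

end Groth.Agent.Sga3.H805.FlatHartogs
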