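import Groth.Agent.Sga3.H805.NormCase
import Groth.Agent.Sga3.H779.DetFinite
import Groth.Agent.Sga3.H804.DimOne
import Groth.Agent.Sga3C.GrpIrr
import Groth.Agent.Sga3B.RedBc892U

/-!
# Groups with reductive affine fibres over a Nagata base
-/

set_option autoImplicit false

universe u

open CategoryTheory MonoidalCategory CartesianMonoidalCategory MonObj GrpObj AlgebraicGeometry Limits

namespace Groth.Agent.Sga3.H805.NagCase

open Groth.Agent.Sga3B CharK Det DetAll AffDvrGrp789 AffDvrBase789 NormCase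

variable {S : Scheme.{u}}

/-- `Det` and isomorphisms of the source. -/
theorem det_iso_comp {G G' H : Over S} [GrpObj G] [GrpObj G'] [GrpObj H] (e : Grp.mk G' ≅ Grp.mk G) (φ : G ⟶ H)
    (k : Type u) [Field k] (x : Spec (CommRingCat.of k) ⟶ S) (h : Det φ k x) :
    Det (H := H) (show G' ⟶ H from (RedIso.und e).hom ≫ φ) k x := by
  intro r i _ hi hφ
  let E := RedIso.und (BcIso.bcMapIso x e)
  have hE : IsMonHom E.hom := inferInstanceAs (IsMonHom (BcIso.bcMapIso x e).hom.hom.hom)
  have h1 : i ≫ E.hom = 1 := by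
    refine h r (i ≫ E.hom) ((isCen_comp_iso i E).mpr hi) ?_
    rw [Category.assoc, ← hφ]
    exact congrArg (fun z => i ≫ z) ((Over.pullback x).map_comp (RedIso.und e).hom φ).symm
  exact (comp_iso_eq_one i E).mp h1

/-- Reductivity at an arbitrary geometric point. -/
theorem isReductiveOver_of_geomFibre {G : Over S} [GrpObj G] {E : Type u} [Field E] [IsAlgClosed E]
    (t : Spec (CommRingCat.of E) ⟶ S)
    (h : Red.IsReductiveOver (AlgebraicClosure (S.residueField (t (IsLocalRing.closedPoint E))))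
      (Red.geomFibre (t (IsLocalRing.closedPoint E)) G)) : Red.IsReductiveOver E (Red.bc t G) :=
  (RedBc892U.isReductiveOver_bc_iff (Red.geomPt (S := Spec (CommRingCat.of E)) (IsLocalRing.closedPoint E))).1
    ((RedBc892U.isReductiveOver_geomFibre_bc_iff t (IsLocalRing.closedPoint E)).2 h)

/-- **The Nagata case.** -/
theorem isAffine_nagata {R : Type u} [CommRing R] (hR : CAlg.IsNagata R)
    (G : Over (Spec (CommRingCat.of R))) [GrpObj G] [Smooth G.hom] [QuasiCompact G.hom] [IsSeparated G.hom]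
    [GeometricallyIrreducible G.hom] (haff : AffFib G.hom)
    (hred : ∀ (E : Type u) [Field E] [IsAlgClosed E] (t : Spec (CommRingCat.of E) ⟶ Spec (CommRingCat.of R)),
      Red.IsReductiveOver E (Red.bc t G)) : IsAffine G.left := by
  refine NormRed.isAffine_of_normal hR G.hom fun p hp => ?_
  let K := FractionRing (R ⧸ p)
  let x : Spec (CommRingCat.of K) ⟶ Spec (CommRingCat.of R) :=
    Spec.map (CommRingCat.ofHom ((algebraMap (R ⧸ p) K).comp (Ideal.Quotient.mk p)))
  obtain ⟨K', hK', M, _, _, χ, hχ, hdet⟩ :=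
    Groth.Agent.Sga3.H779.DetFinite.exists_det_finite x G (hred (AlgebraicClosure K) _)
  refine ⟨K', inferInstance, inferInstance, hK', ?_⟩
  intro R' _ _ _ _ _ _ φ hφ
  let ρ : Spec (CommRingCat.of R') ⟶ Spec (CommRingCat.of R) := Spec.map (CommRingCat.ofHom φ)
  let j' : Spec (CommRingCat.of K') ⟶ Spec (CommRingCat.of R') := Spec.map (CommRingCat.ofHom (algebraMap R' K'))
  have hcomm : j' ≫ ρ = Spec.map (CommRingCat.ofHom (algebraMap K K')) ≫ x := by
    rw [← Spec.map_comp, ← Spec.map_comp, ← CommRingCat.ofHom_comp, ← CommRingCat.ofHom_comp]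
    congr 2
    exact RingHom.ext hφ
  let e : Grp.mk (Red.bc j' (Red.bc ρ G)) ≅
      Grp.mk (Red.bc (Spec.map (CommRingCat.ofHom (algebraMap K K')) ≫ x) G) :=
    (BcIso.bcCompIso j' ρ G).symm ≪≫ BcIso.bcCongrIso hcomm G
  have h1 := smooth_bc ρ G
  have h2 := quasiCompact_bc ρ G
  have h3 := geometricallyIrreducible_bc ρ G
  have h4 : IsSeparated (Red.bc ρ G).hom := MorphismProperty.pullback_snd (P := @IsSeparated) _ _ inferInstance
  exact isAffine_normal (R := R') (K := K') (Red.bc ρ G) (affFib_bc ρ G haff)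
    (fun E _ _ t => RedIso.isReductiveOver_of_iso (BcIso.bcCompIso t ρ G) (hred E (t ≫ ρ)))
    ((RedIso.und e).hom ≫ χ) (Spec.map (CommRingCat.ofHom (algebraMap K' (AlgebraicClosure K))))
    (det_iso_comp e χ _ _ hdet)

end Groth.Agent.Sga3.H805.NagCase
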