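import Groth.Agent.Sga3.H805.DetAll
import Groth.Agent.Sga3.H805.CharExt
import Groth.Agent.Sga3.H805.NormRed
import Groth.Agent.Sga3.H816.RedFiniteAff
import Groth.Agent.Sga3B.SplitBc264

/-!
# Groups with reductive fibres over a normal base, with a character detecting central tori of the generic fibre
-/

set_option autoImplicit false

universe u

open CategoryTheory MonoidalCategory CartesianMonoidalCategory MonObj GrpObj AlgebraicGeometry Limits

namespace Groth.Agent.Sga3.H805.NormCase

open Groth.Agent.Sga3B CharK Det DetAll AffDvrGrp789 AffDvrBase789 CharExt FreeBC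

lemma counit_comp {S S' : Scheme.{u}} (f : S' ⟶ S) {G H : Over S} (φ : G ⟶ H) [GrpObj H]
    (g : Red.bc f G ⟶ Red.bc f H) (hg : g = (Over.pullback f).map φ) :
    (DSPts.bcEquiv f _ H).symm g =
      (Over.homMk (pullback.fst G.hom f) pullback.condition : (Over.map f).obj (Red.bc f G) ⟶ G) ≫ φ := by
  subst hg
  ext1
  rw [DSPts.bcEquiv_symm_left, Over.comp_left]
  exact pullback.lift_fst _ _ _

/-- The character of a base change. -/
lemma dsChar_map_dsBcIso {S S' : Scheme.{u}} (f : S' ⟶ S) {G : Over S} {M : Type} [AddCommGroup M]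
    (φ : G ⟶ Red.DS S M) (g : Red.bc f G ⟶ Red.bc f (Red.DS S M)) (hg : g = (Over.pullback f).map φ)
    (m : Multiplicative M) :
    DSPts.dsChar (g ≫ (TorusAlgClosed.dsBcIso f M).hom.hom.hom) m =
      (pullback.fst G.hom f).appTop (DSPts.dsChar φ m) := by
  rw [SplitBc264.dsChar_dsBcIso, counit_comp f φ g hg, DSPts.dsChar_comp]
  rfl

lemma ds_eq_of_dsChar {S : Scheme.{u}} {T : Over S} {M : Type} [AddCommGroup M] {x y : T ⟶ Red.DS S M}
    (h : ∀ m, DSPts.dsChar x m = DSPts.dsChar y m) : x = y := by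
  rw [← DSPts.dsEquiv_dsChar x, ← DSPts.dsEquiv_dsChar y]
  congr 1
  exact MonoidHom.ext h

lemma locallyOfFiniteType_DS (S : Scheme.{u}) (M : Type) [AddCommGroup M] [Module.Finite ℤ M] :
    LocallyOfFiniteType (Red.DS S M).hom := by
  have h1 : LocallyOfFiniteType (Red.diag (ULift.{u} ℤ) M).hom := by
    change LocallyOfFiniteType (Spec.map _)
    have hfg : AddMonoid.FG M := AddGroup.fg_iff_addMonoid_fg.mp (Module.Finite.iff_addGroup_fg.mp inferInstance)
    have hfg' : Monoid.FG (Multiplicative M) := Monoid.fg_iff_add_fg.mpr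
      (inferInstanceAs (AddMonoid.FG (Additive (Multiplicative M))))
    have h2 : Algebra.FiniteType (ULift.{u} ℤ) (MonoidAlgebra (ULift.{u} ℤ) (Multiplicative M)) := inferInstance
    rw [HasRingHomProperty.Spec_iff (P := @LocallyOfFiniteType)]
    exact RingHom.finiteType_algebraMap.mpr h2
  exact MorphismProperty.pullback_snd (P := @LocallyOfFiniteType) _ _ h1

variable {S : Scheme.{u}}

/-- **The local form.** -/
theorem isAffineHom_chart [IsLocallyNoetherian S] (G : Over S) [GrpObj G] [Smooth G.hom] [QuasiCompact G.hom]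
    [IsSeparated G.hom] (hred : ∀ (K : Type u) [Field K] [IsAlgClosed K] (t : Spec (CommRingCat.of K) ⟶ S),
      Red.IsReductiveOver K (Red.bc t G)) {M : Type} [AddCommGroup M] [Module.Finite ℤ M] (φ : G ⟶ Red.DS S M)
    [IsMonHom φ]
    (hdet : ∀ s : S, ∃ (K : Type u) (_ : Field K) (_ : IsAlgClosed K) (t : Spec (CommRingCat.of K) ⟶ S),
      t (IsLocalRing.closedPoint K) = s ∧ Det φ K t)
    {R B : Type u} [CommRing R] [CommRing B] [Algebra R B] [Algebra.IsStandardSmooth R B]
    (q : Spec (CommRingCat.of R) ⟶ S) [IsOpenImmersion q] (w : DE R B ⟶ Red.bc q G)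
    [IsOpenImmersion w.left] (eW : 𝟙_ (Over (Spec (CommRingCat.of R))) ⟶ DE R B) (heW : eW ≫ w = η) :
    IsAffineHom (pullback.snd G.hom q) := by
  have hN : IsLocallyNoetherian (Spec (CommRingCat.of R)) := isLocallyNoetherian_of_isOpenImmersion q
  have h0 : Smooth (Red.bc q G).hom := MorphismProperty.pullback_snd (P := @Smooth) _ _ inferInstance
  have h1 : LocallyOfFiniteType (Red.bc q G).hom := inferInstance
  have h2 : QuasiCompact (Red.bc q G).hom := inferInstanceAs (QuasiCompact (pullback.snd _ _))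
  have h3 : IsSeparated (Red.bc q G).hom := inferInstanceAs (IsSeparated (pullback.snd _ _))
  have hDa : IsAffineHom (Red.DS S M).hom :=
    MorphismProperty.pullback_snd (P := @IsAffineHom) _ _ (isAffineHom_diag M)
  have hDf : LocallyOfFiniteType (Red.DS S M).hom := locallyOfFiniteType_DS S M
  have hDa' : IsAffineHom (Red.bc q (Red.DS S M)).hom :=
    MorphismProperty.pullback_snd (P := @IsAffineHom) _ _ hDa
  have hDf' : LocallyOfFiniteType (Red.bc q (Red.DS S M)).hom :=
    MorphismProperty.pullback_snd (P := @LocallyOfFiniteType) _ _ hDf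
  have hpt : ∀ s : Spec (CommRingCat.of R), ∃ (K : Type u) (_ : Field K) (_ : IsAlgClosed K)
      (t : Spec (CommRingCat.of K) ⟶ Spec (CommRingCat.of R)), t (IsLocalRing.closedPoint K) = s ∧
        Red.IsReductiveOver K (Red.bc t (Red.bc q G)) ∧ Det ((Over.pullback q).map φ) K t := by
    intro p
    obtain ⟨K, _, _, t, ht, hd⟩ := hdet (q p)
    have hsub : Subsingleton (Spec (CommRingCat.of K)) := inferInstanceAs (Subsingleton (PrimeSpectrum K))
    have hr : Set.range t ⊆ Set.range q := by
      rintro _ ⟨y, rfl⟩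
      exact ⟨p, by rw [← ht]; congr 1; exact Subsingleton.elim _ _⟩
    let t' : Spec (CommRingCat.of K) ⟶ Spec (CommRingCat.of R) := IsOpenImmersion.lift q t hr
    have ht' : t' ≫ q = t := IsOpenImmersion.lift_fac _ _ _
    refine ⟨K, inferInstance, inferInstance, t', ?_, ?_, ?_⟩
    · apply q.isOpenEmbedding.injective
      have h5 : (t' ≫ q) (IsLocalRing.closedPoint K) = q p := by rw [ht', ht]
      exact h5
    · exact RedIso.isReductiveOver_of_iso (BcIso.bcCompIso t' q G) (hred K (t' ≫ q))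
    · rw [det_bc_iff, ht']
      exact hd
  obtain ⟨H, _, h, _, hH1, hH2, hh, -⟩ := exists_qf w eW heW ((Over.pullback q).map φ) hpt
  have hH2' := hH2 hDf'
  exact (Groth.Agent.Sga3.H816.RedFiniteAff.isReductive_of_qf (G := Red.bc q G) (H := H)
    (fun s => RedIso.isReductiveOver_of_iso (BcIso.bcCompIso (Red.geomPt s) q G) (hred _ (Red.geomPt s ≫ q))) h).1

/-- **A character with `Det` at all points of the base** forces affineness. -/
theorem isAffineHom_of_det [IsLocallyNoetherian S] (G : Over S) [GrpObj G] [Smooth G.hom] [QuasiCompact G.hom]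
    [IsSeparated G.hom] (hred : ∀ (K : Type u) [Field K] [IsAlgClosed K] (t : Spec (CommRingCat.of K) ⟶ S),
      Red.IsReductiveOver K (Red.bc t G)) {M : Type} [AddCommGroup M] [Module.Finite ℤ M] (φ : G ⟶ Red.DS S M)
    [IsMonHom φ]
    (hdet : ∀ s : S, ∃ (K : Type u) (_ : Field K) (_ : IsAlgClosed K) (t : Spec (CommRingCat.of K) ⟶ S),
      t (IsLocalRing.closedPoint K) = s ∧ Det φ K t) : IsAffineHom G.hom := by
  choose R B i1 i2 i3 q w eW hq hs hst hw heW using fun s => AdAff.exists_chart G s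
  have := AdAff.isZariskiLocalAtTarget_isAffineHom.{u}
  refine IsZariskiLocalAtTarget.of_openCover (P := @IsAffineHom)
    (Scheme.Cover.mkOfCovers (P := @IsOpenImmersion) S (fun s => Spec (CommRingCat.of (R s))) q
      (fun s => ⟨s, hs s⟩) hq) fun s => ?_
  exact @isAffineHom_chart S _ G _ _ _ _ hred M _ _ φ _ hdet (R s) (B s) (i1 s) (i2 s) (i3 s) (hst s) (q s) (hq s)
    (w s) (hw s) (eW s) (heW s)

/-- Homomorphisms to diagonalizable groups with the base-changed character. -/
theorem comp_dsBcIso_eq {S' : Scheme.{u}} (j : S' ⟶ S) {G : Over S} {M : Type} [AddCommGroup M]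
    (φ : G ⟶ Red.DS S M) (ψ : Red.bc j G ⟶ Red.DS S' M) (g : Red.bc j G ⟶ Red.bc j (Red.DS S M))
    (hg : g = (Over.pullback j).map φ)
    (h : ∀ m, (pullback.fst G.hom j).appTop (DSPts.dsChar φ m) = DSPts.dsChar ψ m) :
    g ≫ (TorusAlgClosed.dsBcIso j M).hom.hom.hom = ψ :=
  ds_eq_of_dsChar fun m => (dsChar_map_dsBcIso j φ g hg m).trans (h m)

/-- `Det` descends along a base change of homomorphisms to diagonalizable groups. -/
theorem det_of_map {S' : Scheme.{u}} (j : S' ⟶ S) {G : Over S} [GrpObj G] {M : Type} [AddCommGroup M]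
    (φ : G ⟶ Red.DS S M) (ψ : Red.bc j G ⟶ Red.DS S' M)
    (h : ∀ m, (pullback.fst G.hom j).appTop (DSPts.dsChar φ m) = DSPts.dsChar ψ m) {E : Type u} [Field E]
    (t : Spec (CommRingCat.of E) ⟶ S') (hdet : Det ψ E t) : Det φ E (t ≫ j) := by
  obtain ⟨g, hg⟩ : ∃ g : Red.bc j G ⟶ Red.bc j (Red.DS S M), g = (Over.pullback j).map φ := ⟨_, rfl⟩
  have h1 : Det g E t := by
    rw [← det_comp_iso g (TorusAlgClosed.dsBcIso j M) E t, comp_dsBcIso_eq j φ ψ g hg h]
    exact hdet
  rw [hg] at h1
  exact (det_bc_iff φ j E t).mp h1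

/-- The point of the spectrum of a fraction field. -/
theorem generic_apply {R : Type u} [CommRing R] [IsDomain R] {K : Type u} [Field K] [Algebra R K]
    [IsFractionRing R K] {E : Type u} [Field E] (t : Spec (CommRingCat.of E) ⟶ Spec (CommRingCat.of K)) :
    (t ≫ Spec.map (CommRingCat.ofHom (algebraMap R K))) (IsLocalRing.closedPoint E) = (⊥ : PrimeSpectrum R) := by
  rw [Scheme.Hom.comp_apply]
  apply PrimeSpectrum.ext
  change Ideal.comap (algebraMap R K) (t (IsLocalRing.closedPoint E) : PrimeSpectrum K).asIdeal = ⊥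
  have h5 : (t (IsLocalRing.closedPoint E) : PrimeSpectrum K).asIdeal = ⊥ := by
    rcases (Ideal.eq_bot_or_top (t (IsLocalRing.closedPoint E) : PrimeSpectrum K).asIdeal) with h | h
    · exact h
    · exact absurd h (t (IsLocalRing.closedPoint E) : PrimeSpectrum K).2.ne_top
  rw [h5]
  exact Ideal.comap_bot_of_injective _ (IsFractionRing.injective R K)

variable {R : Type u} [CommRing R] [IsDomain R] {K : Type u} [Field K] [Algebra R K] [IsFractionRing R K]

/-- Extension of characters with `Det`. -/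
theorem exists_extend_det [IsNoetherianRing R] [IsIntegrallyClosed R] (G : Over (Spec (CommRingCat.of R))) [GrpObj G]
    [Smooth G.hom] [QuasiCompact G.hom] [IsSeparated G.hom] {M : Type} [AddCommGroup M]
    (ψ : Red.bc (Spec.map (CommRingCat.ofHom (algebraMap R K))) G ⟶ Red.DS (Spec (CommRingCat.of K)) M) [IsMonHom ψ]
    {E : Type u} [Field E] (t : Spec (CommRingCat.of E) ⟶ Spec (CommRingCat.of K))
    (hdet : Det ψ E t) : ∃ (φ : G ⟶ Red.DS (Spec (CommRingCat.of R)) M) (_ : IsMonHom φ),
      Det φ E (t ≫ Spec.map (CommRingCat.ofHom (algebraMap R K))) := by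
  obtain ⟨φ, hφ, hφψ⟩ := exists_extend G ψ
  exact ⟨φ, hφ, det_of_map _ φ ψ hφψ t hdet⟩

/-- **The normal case.** -/
theorem isAffine_normal [IsNoetherianRing R] [IsIntegrallyClosed R] (G : Over (Spec (CommRingCat.of R))) [GrpObj G]
    [Smooth G.hom] [QuasiCompact G.hom] [IsSeparated G.hom] [GeometricallyIrreducible G.hom] (haff : AffFib G.hom)
    (hred : ∀ (E : Type u) [Field E] [IsAlgClosed E] (t : Spec (CommRingCat.of E) ⟶ Spec (CommRingCat.of R)),
      Red.IsReductiveOver E (Red.bc t G)) {M : Type} [AddCommGroup M] [Module.Finite ℤ M]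
    (ψ : Red.bc (Spec.map (CommRingCat.ofHom (algebraMap R K))) G ⟶ Red.DS (Spec (CommRingCat.of K)) M) [IsMonHom ψ]
    {E : Type u} [Field E] [IsAlgClosed E] (t : Spec (CommRingCat.of E) ⟶ Spec (CommRingCat.of K))
    (hdet : Det ψ E t) : IsAffine G.left := by
  have hN : IsLocallyNoetherian (Spec (CommRingCat.of R)) :=
    (isLocallyNoetherian_Spec (R := CommRingCat.of R)).mpr (inferInstanceAs (IsNoetherianRing R))
  obtain ⟨φ, hφ, h2⟩ := exists_extend_det G ψ t hdet
  have h3 : IsAffineHom G.hom := by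
    refine isAffineHom_of_det G hred φ fun s => exists_det G haff hred φ _ h2 s ?_
    rw [generic_apply]
    exact (PrimeSpectrum.le_iff_specializes _ _).mp bot_le
  exact isAffine_of_isAffineHom G.hom

end Groth.Agent.Sga3.H805.NormCase
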