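import Groth.Agent.Sga3.H805.FlatHartogs
import Mathlib.AlgebraicGeometry.Morphisms.Flat
import Mathlib.RingTheory.Localization.BaseChange

/-!
# Global sections of flat schemes over a domain and their fractions

For `f : X ⟶ Spec R`:
* `str f V : R →+* Γ(X, V)`;
* `exists_fraction`, `exists_smul_eq_zero`: sections over a localization of the base are fractions;
* `eq_zero_of_str_mul`: torsion freeness for `f` flat and `R` a domain;
* `exists_of_affine`: divisibility by an element of the base is local;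
* `exists_ext`: for `R` a noetherian normal domain and `f` flat, a section over the generic fibre which extends over
  all discrete valuation rings `R_p` extends.
-/

set_option autoImplicit false

universe u

open CategoryTheory CategoryTheory.Limits AlgebraicGeometry Opposite TopologicalSpace

namespace Groth.Agent.Sga3.H805.SecExt

variable {R : Type u} [CommRing R] {X : Scheme.{u}} (f : X ⟶ Spec (CommRingCat.of R))

/-- the structure map `R → Γ(X, V)` -/
noncomputable def str (V : X.Opens) : R →+* Γ(X, V) :=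
  (f.appLE ⊤ V le_top).hom.comp (Scheme.ΓSpecIso (CommRingCat.of R)).inv.hom

lemma map_str {V W : X.Opens} (h : W ≤ V) (r : R) :
    X.presheaf.map (homOfLE h).op (str f V r) = str f W r := by
  rw [str, RingHom.comp_apply, str, RingHom.comp_apply]
  exact congr($(f.appLE_map (le_top : V ≤ f ⁻¹ᵁ ⊤) (homOfLE h).op) _)

lemma str_top (r : R) : str f ⊤ r = f.appTop ((Scheme.ΓSpecIso (CommRingCat.of R)).inv r) := by
  rw [str, RingHom.comp_apply]
  have : f.appLE ⊤ ⊤ le_top = f.appTop := Scheme.Hom.appLE_eq_app f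
  rw [this]

lemma flat_str [Flat f] {V : X.Opens} (hV : IsAffineOpen V) : (str f V).Flat := by
  refine RingHom.Flat.comp ?_ (HasRingHomProperty.appLE @Flat f inferInstance
    ⟨⊤, isAffineOpen_top _⟩ ⟨V, hV⟩ le_top)
  exact RingHom.Flat.of_bijective (ConcreteCategory.bijective_of_isIso _)

/-- Torsion freeness. -/
lemma eq_zero_of_str_mul [IsDomain R] [Flat f] (V : X.Opens) {a : R} (ha : a ≠ 0) (z : Γ(X, V))
    (h : str f V a * z = 0) : z = 0 := by
  refine TopCat.Sheaf.eq_of_locally_eq' X.sheaf (fun W : {W : X.Opens // IsAffineOpen W ∧ W ≤ V} => W.1) V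
    (fun W => homOfLE W.2.2) ?_ _ _ ?_
  · intro x hx
    obtain ⟨_, ⟨W, hW, rfl⟩, hxW, hWV⟩ := X.isBasis_affineOpens.exists_subset_of_mem_open hx V.2
    rw [Opens.mem_iSup]
    exact ⟨⟨W, hW, hWV⟩, hxW⟩
  · rintro ⟨W, hW, hWV⟩
    change X.presheaf.map (homOfLE hWV).op z = X.presheaf.map (homOfLE hWV).op 0
    rw [map_zero]
    have h1 : str f W a * X.presheaf.map (homOfLE hWV).op z = 0 := by
      rw [← map_str f hWV, ← map_mul, h, map_zero]
    let _ : Algebra R Γ(X, W) := (str f W).toAlgebra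
    have hfl : Module.Flat R Γ(X, W) := flat_str f hW
    have h2 : a • X.presheaf.map (homOfLE hWV).op z = 0 := h1
    exact (smul_eq_zero.mp h2).resolve_left ha

/-- Divisibility by an element of the base is local. -/
lemma exists_of_cover [IsDomain R] [Flat f] {a : R} (ha : a ≠ 0) (x : Γ(X, ⊤)) {ι : Type u}
    (U : ι → X.Opens) (hcov : (⊤ : X.Opens) ≤ ⨆ i, U i)
    (h : ∀ i, ∃ y : Γ(X, U i), X.presheaf.map (homOfLE le_top).op x = str f (U i) a * y) :
    ∃ y : Γ(X, ⊤), x = str f ⊤ a * y := by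
  choose y hy using h
  have hcompat : TopCat.Presheaf.IsCompatible X.sheaf.1 U y := by
    intro V W
    change X.presheaf.map (homOfLE (inf_le_left : U V ⊓ U W ≤ U V)).op (y V) =
      X.presheaf.map (homOfLE (inf_le_right : U V ⊓ U W ≤ U W)).op (y W)
    rw [← sub_eq_zero]
    apply eq_zero_of_str_mul f _ ha
    rw [mul_sub, ← map_str f (inf_le_left : U V ⊓ U W ≤ U V), ← map_mul, ← hy,
      map_str f (inf_le_left : U V ⊓ U W ≤ U V), ← map_str f (inf_le_right : U V ⊓ U W ≤ U W), ← map_mul,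
      ← hy, ← CommRingCat.comp_apply, ← CommRingCat.comp_apply, ← Functor.map_comp, ← Functor.map_comp,
      sub_eq_zero]
    rfl
  obtain ⟨t, ht, -⟩ := X.sheaf.existsUnique_gluing' _ ⊤ (fun W => homOfLE le_top) hcov y hcompat
  refine ⟨t, ?_⟩
  refine X.sheaf.eq_of_locally_eq' U ⊤ (fun W => homOfLE le_top) hcov _ _ fun W => ?_
  have h3 : X.presheaf.map (homOfLE le_top).op t = y W := ht W
  change X.presheaf.map (homOfLE le_top).op x =
    X.presheaf.map (homOfLE le_top).op (str f ⊤ a * (show Γ(X, ⊤) from t))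
  rw [map_mul, h3, hy W, map_str]

/-- Divisibility by an element of the base can be tested on all affine opens. -/
lemma exists_of_affine [IsDomain R] [Flat f] {a : R} (ha : a ≠ 0) (x : Γ(X, ⊤))
    (h : ∀ V : X.Opens, IsAffineOpen V →
      ∃ y : Γ(X, V), X.presheaf.map (homOfLE le_top).op x = str f V a * y) :
    ∃ y : Γ(X, ⊤), x = str f ⊤ a * y := by
  refine exists_of_cover f ha x (fun W : {W : X.Opens // IsAffineOpen W} => W.1) (fun x _ => ?_)
    fun W => h W.1 W.2
  obtain ⟨_, ⟨W, hW, rfl⟩, hxW, -⟩ := X.isBasis_affineOpens.exists_subset_of_mem_open (Set.mem_univ x)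
    isOpen_univ
  rw [Opens.mem_iSup]
  exact ⟨⟨W, hW⟩, hxW⟩

section Localization

variable {R' : Type u} [CommRing R'] [Algebra R R'] (W : Submonoid R) [IsLocalization W R'] {Y : Scheme.{u}}
  {f} {g : Y ⟶ X} {iY : Y ⟶ Spec (CommRingCat.of R')}

lemma appTop_str {R₁ : Type u} [CommRing R₁] {φ : R →+* R₁} {iZ : Y ⟶ Spec (CommRingCat.of R₁)}
    (H : g ≫ f = iZ ≫ Spec.map (CommRingCat.ofHom φ)) (r : R) :
    g.appTop (str f ⊤ r) = str iZ ⊤ (φ r) := by
  rw [str_top, str_top]
  have h1 := congr(Scheme.Hom.appTop $H)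
  rw [Scheme.Hom.comp_appTop, Scheme.Hom.comp_appTop] at h1
  have h2 := congr($h1 ((Scheme.ΓSpecIso (CommRingCat.of R)).inv r))
  refine h2.trans ?_
  have h3 := congr($(Scheme.ΓSpecIso_inv_naturality (CommRingCat.ofHom φ)) r)
  exact congrArg iZ.appTop h3.symm

theorem isPushout_str (H : IsPullback g iY f (Spec.map (CommRingCat.ofHom (algebraMap R R'))))
    [Module.Flat R R'] [CompactSpace X] [QuasiSeparatedSpace X] :
    IsPushout (CommRingCat.ofHom (algebraMap R R')) (CommRingCat.ofHom (str f ⊤))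
      (CommRingCat.ofHom (str iY ⊤)) (CommRingCat.ofHom g.appTop.hom) := by
  have hfl : Flat (Spec.map (CommRingCat.ofHom (algebraMap R R'))) := by
    rw [HasRingHomProperty.Spec_iff (P := @Flat)]
    rw [CommRingCat.hom_ofHom, RingHom.flat_algebraMap_iff]
    infer_instance
  have h1 := isIso_pushoutSection_of_isQuasiSeparated_of_flat_right (US := ⊤) (UT := ⊤) (UX := ⊤)
    (UY := ⊤) H (by simp) (by simp) (by simp) (isAffineOpen_top _) (isAffineOpen_top _)
    CompactSpace.isCompact_univ isQuasiSeparated_univ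
  have h2 := (isIso_pushoutSection_iff ..).mp h1
  have e : ∀ {A B : Scheme.{u}} (f : A ⟶ B) (h : (⊤ : A.Opens) ≤ f ⁻¹ᵁ ⊤), f.appLE ⊤ ⊤ h = f.appTop :=
    fun f _ => Scheme.Hom.appLE_eq_app f
  rw [e, e, e, e] at h2
  refine h2.flip.of_iso (Scheme.ΓSpecIso (CommRingCat.of R)) (Scheme.ΓSpecIso (CommRingCat.of R'))
    (Iso.refl _) (Iso.refl _) ?_ ?_ ?_ ?_
  · exact Scheme.ΓSpecIso_naturality _
  · ext x
    change f.appTop x = str f ⊤ ((Scheme.ΓSpecIso (CommRingCat.of R)).hom x)
    rw [str_top]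
    congr 1
    exact congr($((Scheme.ΓSpecIso (CommRingCat.of R)).hom_inv_id) x).symm
  · ext x
    change iY.appTop x = str iY ⊤ ((Scheme.ΓSpecIso (CommRingCat.of R')).hom x)
    rw [str_top]
    congr 1
    exact congr($((Scheme.ΓSpecIso (CommRingCat.of R')).hom_inv_id) x).symm
  · rfl

include W in
theorem exists_fraction (H : IsPullback g iY f (Spec.map (CommRingCat.ofHom (algebraMap R R'))))
    [CompactSpace X] [QuasiSeparatedSpace X] :
    (∀ u : Γ(Y, ⊤), ∃ (x : Γ(X, ⊤)) (w : R), w ∈ W ∧ g.appTop x = g.appTop (str f ⊤ w) * u) ∧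
    (∀ x : Γ(X, ⊤), g.appTop x = 0 → ∃ w : R, w ∈ W ∧ str f ⊤ w * x = 0) := by
  have hfl : Module.Flat R R' := IsLocalization.flat R' W
  have h1 := isPushout_str H
  let _ : Algebra R Γ(X, ⊤) := (str f ⊤).toAlgebra
  let _ : Algebra Γ(X, ⊤) Γ(Y, ⊤) := g.appTop.hom.toAlgebra
  let _ : Algebra R' Γ(Y, ⊤) := (str iY ⊤).toAlgebra
  let _ : Algebra R Γ(Y, ⊤) := (g.appTop.hom.comp (str f ⊤)).toAlgebra
  have t1 : IsScalarTower R Γ(X, ⊤) Γ(Y, ⊤) := IsScalarTower.of_algebraMap_eq' rfl
  have t2 : IsScalarTower R R' Γ(Y, ⊤) := IsScalarTower.of_algebraMap_eq fun r => appTop_str H.w r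
  have h2 : Algebra.IsPushout R R' Γ(X, ⊤) Γ(Y, ⊤) := CommRingCat.isPushout_iff_isPushout.mp h1
  have h3 : IsLocalization (Algebra.algebraMapSubmonoid Γ(X, ⊤) W) Γ(Y, ⊤) :=
    (Algebra.isLocalization_iff_isPushout W R').mpr h2.symm
  refine ⟨fun u => ?_, fun x hx => ?_⟩
  · obtain ⟨⟨x, ⟨_, w, hw, rfl⟩⟩, hx⟩ := IsLocalization.surj (Algebra.algebraMapSubmonoid Γ(X, ⊤) W) u
    refine ⟨x, w, hw, ?_⟩
    rw [mul_comm]
    exact hx.symm
  · have hx' : algebraMap Γ(X, ⊤) Γ(Y, ⊤) x = 0 := hx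
    obtain ⟨⟨_, w, hw, rfl⟩, hw'⟩ := (IsLocalization.map_eq_zero_iff
      (Algebra.algebraMapSubmonoid Γ(X, ⊤) W) Γ(Y, ⊤) x).mp hx'
    exact ⟨w, hw, hw'⟩

/-- Sections of a flat scheme over a domain inject into sections over a localization. -/
theorem appTop_injective [IsDomain R] [Flat f] (hW : W ≤ nonZeroDivisors R)
    (H : IsPullback g iY f (Spec.map (CommRingCat.ofHom (algebraMap R R'))))
    [CompactSpace X] [QuasiSeparatedSpace X] : Function.Injective g.appTop := by
  rw [injective_iff_map_eq_zero]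
  intro x hx
  obtain ⟨w, hw, hw'⟩ := (exists_fraction W H).2 x hx
  exact eq_zero_of_str_mul f ⊤ (nonZeroDivisors.ne_zero (hW hw)) x hw'

end Localization

/-- **Hartogs.** -/
theorem exists_ext [IsDomain R] [IsNoetherianRing R] [IsIntegrallyClosed R] {K : Type u} [Field K]
    [Algebra R K] [IsFractionRing R K] [Flat f] [CompactSpace X] [QuasiSeparatedSpace X] {Y : Scheme.{u}}
    {g : Y ⟶ X} {iY : Y ⟶ Spec (CommRingCat.of K)}
    (H : IsPullback g iY f (Spec.map (CommRingCat.ofHom (algebraMap R K)))) (u : Γ(Y, ⊤))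
    (hu : ∀ (p : Ideal R) [p.IsPrime], IsDiscreteValuationRing (Localization.AtPrime p) →
      ∃ s : R, s ∉ p ∧ ∃ y : Γ(X, ⊤), g.appTop y = g.appTop (str f ⊤ s) * u) :
    ∃ v : Γ(X, ⊤), g.appTop v = u := by
  obtain ⟨x, a, ha, hx⟩ := (exists_fraction (nonZeroDivisors R) H).1 u
  have hinj := appTop_injective (nonZeroDivisors R) le_rfl H
  have ha0 : a ≠ 0 := nonZeroDivisors.ne_zero ha
  obtain ⟨y, hy⟩ := exists_of_affine f ha0 x fun V hV => by
    let _ : Algebra R Γ(X, V) := (str f V).toAlgebra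
    have hfl : Module.Flat R Γ(X, V) := flat_str f hV
    obtain ⟨y, hy⟩ := FlatHartogs.exists_eq_smul (X.presheaf.map (homOfLE (le_top : V ≤ ⊤)).op x) ha0 (by
      intro p _ hp
      obtain ⟨s, hs, y, hy⟩ := hu p hp
      refine ⟨s, hs, X.presheaf.map (homOfLE (le_top : V ≤ ⊤)).op y, ?_⟩
      have h1 : str f ⊤ s * x = str f ⊤ a * y := by
        apply hinj
        rw [map_mul, map_mul, hx, hy]
        ring
      have h2 := congrArg (X.presheaf.map (homOfLE (le_top : V ≤ ⊤)).op) h1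
      rw [map_mul, map_mul, map_str, map_str] at h2
      exact h2)
    exact ⟨y, hy⟩
  refine ⟨y, ?_⟩
  have h1 : g.appTop (str f ⊤ a) * (g.appTop y - u) = 0 := by
    rw [mul_sub, ← hx, ← map_mul, ← hy, sub_self]
  have h2 : IsUnit (g.appTop (str f ⊤ a)) := by
    rw [appTop_str H.w]
    refine IsUnit.map (str iY ⊤) ?_
    rw [isUnit_iff_ne_zero]
    exact fun h0 => ha0 (IsFractionRing.injective R K (h0.trans (map_zero _).symm))
  exact sub_eq_zero.mp (h2.mul_right_eq_zero.mp h1)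

end Groth.Agent.Sga3.H805.SecExt
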